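import Cfsg.Agent.Lib.Lie.BoundedPres.SU3.Main
import Cfsg.Agent.Lib.Lie.BoundedPres.SU.All

/-!
# The systems for `SU₃` and `PSU₃` of the standard form
-/

set_option autoImplicit false

namespace CfsgLib.Lie.BoundedPres.SUThree

universe u

theorem sys_su_three {F : Type u} [Field F] [Fintype F] {q : ℕ} (hF : Fintype.card F = q ^ 2) (h2 : q ≠ 2) :
    HasSysJ ↥(Cfsg.SU 3 F q) 3 18 0 ∧ HasSysJ (Cfsg.PSU 3 F q) 3 19 0 := by
  obtain ⟨C⟩ := CfsgLib.Classical.uctx_exists hF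
  obtain ⟨e⟩ := exists_equiv3 C
  have h := (sys_grp3 C hF h2).of_equiv e
  exact ⟨h, SUGraph.sys_psu hF le_rfl h⟩

end CfsgLib.Lie.BoundedPres.SUThree
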