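import Cfsg.Agent.Lib.Lie.BoundedPres.SU3.Model
import Cfsg.Agent.Lib.Lie.ShortPres.Module

/-!
# Commutation lemmas for the root group of `SU₃`
-/

set_option autoImplicit false

namespace CfsgLib.Lie.BoundedPres.SUThree

open Polynomial CfsgLib.Lie.ShortPres

variable {H : Type*} [Group H]

theorem conjPow_succ (u a : H) (i : ℕ) : conjPow u a (i + 1) = a * conjPow u a i * a⁻¹ := by
  rw [add_comm, conjPow_add, pow_one]

theorem conjPow_pow (u a : H) (e i : ℕ) : conjPow u (a ^ e) i = conjPow u a (e * i) := by
  simp only [conjPow, pow_mul]

/-- commuting with all conjugates from three, and a fourth-term conjugation -/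
theorem commute_conjPow_four {u a b : H} (hab : Commute a b) (h1 : Commute u (conjPow u a 1))
    (h2 : Commute u (conjPow u a 2)) (h3 : Commute u (conjPow u a 3))
    (hb : b * u * b⁻¹ = u * (conjPow u a 1 ^ 3 * conjPow u a 2 ^ 3 * conjPow u a 3)) (i j : ℕ) :
    Commute (conjPow u a i) (conjPow u a j) := by
  have shift : ∀ k m, Commute u (conjPow u a m) → Commute (conjPow u a k) (conjPow u a (k + m)) := by
    intro k m hm
    rw [conjPow_add]
    exact (Commute.conj_iff (a ^ k)).2 hm
  have hu : ∀ n, Commute u (conjPow u a n) := by
    intro n
    induction n using Nat.strong_induction_on with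
    | _ n ih =>
      rcases Nat.lt_or_ge n 4 with h4 | h4
      · interval_cases n
        · rw [conjPow_zero]
        · exact h1
        · exact h2
        · exact h3
      have near : ∀ k l, k < l + n → l < k + n → Commute (conjPow u a k) (conjPow u a l) := by
        intro k l hk hl
        rcases le_total k l with h | h
        · obtain ⟨m, rfl⟩ := Nat.exists_eq_add_of_le h
          exact shift k m (ih m (by omega))
        · obtain ⟨m, rfl⟩ := Nat.exists_eq_add_of_le h
          exact (shift l m (ih m (by omega))).symm
      have first : ∀ l, l < n → Commute u (conjPow u a l) := fun l hl => ih l hl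
      obtain ⟨m, rfl⟩ : ∃ m, n = m + 3 := ⟨n - 3, by omega⟩
      set A := conjPow u a 1 ^ 3 * conjPow u a 2 ^ 3 * conjPow u a 3 with hA
      set B := conjPow u a m * conjPow u a (m + 1) ^ 3 * conjPow u a (m + 2) ^ 3 with hB
      have hb2 : b * conjPow u a m * b⁻¹ = B * conjPow u a (m + 3) := by
        have hc : b * a ^ m = a ^ m * b := ((hab.pow_left m).eq).symm
        calc b * conjPow u a m * b⁻¹ = (b * a ^ m) * u * (b * a ^ m)⁻¹ := by simp only [conjPow]; group
          _ = a ^ m * (b * u * b⁻¹) * (a ^ m)⁻¹ := by rw [hc]; group
          _ = _ := by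
            rw [hb, hA, hB, conjPow_add u a m 1, conjPow_add u a m 2, conjPow_add u a m 3]
            simp only [conjPow, conj_pow]
            group
      have e : Commute (u * A) (B * conjPow u a (m + 3)) := by
        rw [← hb2, hA, ← hb]
        exact (Commute.conj_iff b).2 (first m (by omega))
      have hAB : Commute A B := by
        rw [hA, hB]
        refine ((Commute.mul_left ?_ ?_).mul_left ?_)
        all_goals refine ((Commute.mul_right ?_ ?_).mul_right ?_)
        · exact (near _ _ (by omega) (by omega)).pow_left 3
        · exact (near _ _ (by omega) (by omega)).pow_pow 3 3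
        · exact (near _ _ (by omega) (by omega)).pow_pow 3 3
        · exact (near _ _ (by omega) (by omega)).pow_left 3
        · exact (near _ _ (by omega) (by omega)).pow_pow 3 3
        · exact (near _ _ (by omega) (by omega)).pow_pow 3 3
        · exact near _ _ (by omega) (by omega)
        · exact (near _ _ (by omega) (by omega)).pow_right 3
        · exact (near _ _ (by omega) (by omega)).pow_right 3
      have hAr : Commute A (conjPow u a (m + 3)) := by
        rw [hA]
        exact (((near _ _ (by omega) (by omega)).pow_left 3).mul_left
          ((near _ _ (by omega) (by omega)).pow_left 3)).mul_left (near _ _ (by omega) (by omega))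
      have huB : Commute u B := by
        rw [hB]
        exact ((first _ (by omega)).mul_right ((first _ (by omega)).pow_right 3)).mul_right
          ((first _ (by omega)).pow_right 3)
      set r := conjPow u a (m + 3)
      have h5 : B * (u * r) * A = B * (r * u) * A := by
        calc B * (u * r) * A = (B * u) * (r * A) := by group
          _ = (u * B) * (A * r) := by rw [huB.eq, hAr.eq]
          _ = u * (B * A) * r := by group
          _ = u * (A * B) * r := by rw [hAB.eq]
          _ = (u * A) * (B * r) := by group
          _ = (B * r) * (u * A) := e.eq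
          _ = B * (r * u) * A := by group
      exact mul_left_cancel (mul_right_cancel h5)
  rcases le_total i j with h | h
  · obtain ⟨k, rfl⟩ := Nat.exists_eq_add_of_le h
    exact shift i k (hu k)
  · obtain ⟨k, rfl⟩ := Nat.exists_eq_add_of_le h
    exact (shift j k (hu k)).symm

/-- all conjugates of `z` commute with `u`, from one of them and a stable set of conjugates of `u` -/
theorem central_of_stable {z u h : H} {e N : ℕ} (hN : 0 < N) (hh : h ^ N = 1) (hzu : Commute z u)
    (hze : h ^ e * z * (h ^ e)⁻¹ = z)
    (hhu : h * u * h⁻¹ ∈ Subgroup.closure (Set.range (conjPow u (h ^ e)))) (i : ℕ) :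
    Commute (conjPow z h i) u := by
  set M := Subgroup.closure (Set.range (conjPow u (h ^ e))) with hM
  have hz : ∀ m ∈ M, Commute z m := by
    intro m hm
    induction hm using Subgroup.closure_induction with
    | mem x hx =>
      obtain ⟨k, rfl⟩ := hx
      induction k with
      | zero => rwa [conjPow_zero]
      | succ k ih =>
        rw [conjPow_succ]
        conv => arg 1; rw [← hze]
        exact (Commute.conj_iff (h ^ e)).2 ih
    | one => exact Commute.one_right _
    | mul _ _ _ _ h1 h2 => exact h1.mul_right h2
    | inv _ _ h1 => exact h1.inv_right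
  have hMs : ∀ j : ℕ, h ^ j * u * (h ^ j)⁻¹ ∈ M := by
    have hstep : ∀ x ∈ M, h * x * h⁻¹ ∈ M := by
      intro x hx
      induction hx using Subgroup.closure_induction with
      | mem x hx =>
        obtain ⟨k, rfl⟩ := hx
        rw [show h * conjPow u (h ^ e) k * h⁻¹ = (h ^ e) ^ k * (h * u * h⁻¹) * ((h ^ e) ^ k)⁻¹ by
          have hc : Commute h ((h ^ e) ^ k) := ((Commute.refl h).pow_right e).pow_right k
          calc h * ((h ^ e) ^ k * u * ((h ^ e) ^ k)⁻¹) * h⁻¹ = (h * (h ^ e) ^ k) * u * (h * (h ^ e) ^ k)⁻¹ := by group
            _ = ((h ^ e) ^ k * h) * u * ((h ^ e) ^ k * h)⁻¹ := by rw [hc.eq]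
            _ = _ := by group]
        induction k with
        | zero => simpa using hhu
        | succ k ih =>
          have key : ∀ y ∈ M, h ^ e * y * (h ^ e)⁻¹ ∈ M := by
            intro y hy
            induction hy using Subgroup.closure_induction with
            | mem y hy =>
              obtain ⟨l, rfl⟩ := hy
              exact Subgroup.subset_closure ⟨l + 1, conjPow_succ u (h ^ e) l⟩
            | one => simp
            | mul a b _ _ ha hb =>
              rw [show h ^ e * (a * b) * (h ^ e)⁻¹ = (h ^ e * a * (h ^ e)⁻¹) * (h ^ e * b * (h ^ e)⁻¹) by group]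
              exact mul_mem ha hb
            | inv a _ ha =>
              rw [show h ^ e * a⁻¹ * (h ^ e)⁻¹ = (h ^ e * a * (h ^ e)⁻¹)⁻¹ by group]
              exact inv_mem ha
          rw [pow_succ']
          have := key _ ih
          simpa [mul_assoc] using this
      | one => simp
      | mul a b _ _ ha hb =>
        rw [show h * (a * b) * h⁻¹ = (h * a * h⁻¹) * (h * b * h⁻¹) by group]
        exact mul_mem ha hb
      | inv a _ ha =>
        rw [show h * a⁻¹ * h⁻¹ = (h * a * h⁻¹)⁻¹ by group]
        exact inv_mem ha
    intro j
    induction j with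
    | zero =>
      have h0 : conjPow u (h ^ e) 0 ∈ M := Subgroup.subset_closure ⟨0, rfl⟩
      simpa [conjPow_zero] using h0
    | succ j ih =>
      have := hstep _ ih
      simpa [pow_succ', mul_assoc] using this
  -- conjugate back
  obtain ⟨m, hm⟩ : ∃ m : ℕ, h ^ i * h ^ m = 1 := ⟨i * N - i, by
    rw [← pow_add, Nat.add_sub_cancel' (Nat.le_mul_of_pos_right i hN), mul_comm, pow_mul, hh, one_pow]⟩
  have h1 := (Commute.conj_iff (h ^ i)).2 (hz _ (hMs m))
  rwa [show h ^ i * (h ^ m * u * (h ^ m)⁻¹) * (h ^ i)⁻¹ = (h ^ i * h ^ m) * u * (h ^ i * h ^ m)⁻¹ by group, hm,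
    inv_one, one_mul, mul_one] at h1

/-- all conjugates of `z` commute with `u`, from a basis of them -/
theorem central_of_basis {p : ℕ} [Fact p.Prime] {z u h : H} {f : (ZMod p)[X]} (hf : f.Monic)
    (hw : pw z h f = 1) (hseed : ∀ i, i < f.natDegree → Commute (conjPow z h i) u) (i : ℕ) :
    Commute (conjPow z h i) u := by
  set d := f.natDegree with hd
  have hlead : (f.coeff d).val = 1 := by rw [hd, hf.coeff_natDegree]; exact ZMod.val_one p
  have e : conjPow z h d = (((List.range d).map fun l => conjPow z h l ^ (f.coeff l).val).prod)⁻¹ := by
    rw [pw, ← hd, List.range_succ, List.map_append, List.prod_append, List.map_singleton, List.prod_singleton,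
      hlead, pow_one] at hw
    exact eq_inv_of_mul_eq_one_right hw
  induction i using Nat.strong_induction_on with
  | _ i ih =>
    rcases Nat.lt_or_ge i d with hi | hi
    · exact hseed i hi
    obtain ⟨k, rfl⟩ := Nat.exists_eq_add_of_le hi
    have hprod : Commute (conjPow ((List.range d).map fun l => conjPow z h l ^ (f.coeff l).val).prod h k) u := by
      have key : ∀ n ≤ d, Commute (conjPow ((List.range n).map fun l => conjPow z h l ^ (f.coeff l).val).prod h k) u := by
        intro n hn
        induction n with
        | zero => simp [conjPow]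
        | succ n ihn =>
          rw [List.range_succ, List.map_append, List.prod_append, List.map_singleton, List.prod_singleton,
            show conjPow (((List.range n).map fun l => conjPow z h l ^ (f.coeff l).val).prod *
              conjPow z h n ^ (f.coeff n).val) h k =
              conjPow ((List.range n).map fun l => conjPow z h l ^ (f.coeff l).val).prod h k *
                conjPow z h (k + n) ^ (f.coeff n).val by
              rw [conjPow_add]; simp only [conjPow, conj_pow]; group]
          exact (ihn (by omega)).mul_left ((ih (k + n) (by omega)).pow_left _)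
      exact key d le_rfl
    rw [add_comm, conjPow_add, e, show h ^ k *
      (((List.range d).map fun l => conjPow z h l ^ (f.coeff l).val).prod)⁻¹ * (h ^ k)⁻¹ =
      (conjPow ((List.range d).map fun l => conjPow z h l ^ (f.coeff l).val).prod h k)⁻¹ by
        simp only [conjPow]; group]
    exact hprod.inv_left

end CfsgLib.Lie.BoundedPres.SUThree
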