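import Cfsg.Agent.Lib.Lie.BoundedPres.SU3.Weyl
import Cfsg.Agent.Lib.Lie.BoundedPres.SU3.Torus
import Cfsg.Agent.Lib.Descent.FixedField
import Cfsg.Agent.Lib.Lie.BoundedPres.SysHom

/-!
# A Borel subgroup of `SU₃` from relations on a root element and a torus element

The centre of the root group is parametrised by the fixed field, the quotient by the field; so the projection to
the matrices is injective.
-/

set_option autoImplicit false
set_option maxHeartbeats 800000

namespace CfsgLib.Lie.BoundedPres.SUThree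

open Polynomial Matrix CfsgLib.SU CfsgLib.Lie.ShortPres
open scoped commutatorElement

universe u v

variable {F : Type u} [Field F] {q : ℕ} {C : UCtx F q}

theorem xel_inj {p p' : Par C} (h : xel p = xel p') : p = p' := by
  have e : xel (pmul (pinv p) p') * hel C 1 = 1 := by
    rw [hel_one, mul_one, ← xel_mul, xel_pinv, h, inv_mul_cancel]
  have h1 := (small_unique e).1
  have ha : p'.1.1 = p.1.1 := by
    have := congrArg (fun x : Par C => x.1.1) h1
    simp [pmul, pinv, pone] at this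
    linear_combination this
  refine Par.ext ha.symm ?_
  have := congrArg (fun x : Par C => x.1.2) h1
  simp [pmul, pinv, pone, ha] at this
  linear_combination p.cond - this

theorem xel_conj_hel (μ : Fˣ) (p : Par C) : hel C μ * xel p * (hel C μ)⁻¹ = xel (pconj μ p) := by
  rw [hel_xel, mul_inv_cancel_right]

theorem hel_pow (μ : Fˣ) (n : ℕ) : hel C μ ^ n = hel C (μ ^ n) := by
  induction n with
  | zero => rw [pow_zero, pow_zero, hel_one]
  | succ n ih => rw [pow_succ, ih, hel_mul, pow_succ]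

theorem tstar_pow (μ : Fˣ) (n : ℕ) : tstar C (μ ^ n) = tstar C μ ^ n := by
  simp [tstar, map_pow, inv_pow]

theorem lam_pow (μ : Fˣ) (n : ℕ) : lam C (μ ^ n) = lam C μ ^ n := by
  induction n with
  | zero => simp [lam]
  | succ n ih => rw [pow_succ, lam_mul, ih, pow_succ]

/-- the central part of a commutator -/
def cpar (C : UCtx F q) (a₀ η : F) (c : F) (hc : C.bar c = c) : Par C :=
  ⟨(0, a₀ * C.bar a₀ * (C.bar η - η) * c), by
    simp only [map_mul, map_sub, C.bar_bar, hc, map_zero, mul_zero, add_zero]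
    ring⟩

theorem commutator_xel (u₀ : Par C) (μ : Fˣ) :
    ⁅xel u₀, xel (pconj μ u₀)⁆ = xel (cpar C u₀.1.1 (lam C μ) 1 (map_one _)) := by
  rw [commutatorElement_def, ← xel_pinv, ← xel_pinv, xel_mul, xel_mul, xel_mul]
  congr 1
  refine Par.ext (by simp [pmul, pinv, pconj, cpar]) ?_
  have hc := u₀.cond
  have hN1 : C.bar (lam C μ * u₀.1.1) * (lam C μ * u₀.1.1) = (μ : F) * C.bar μ * (u₀.1.1 * C.bar u₀.1.1) := by
    have h1 := (pconj μ u₀).cond
    simp only [pconj, map_mul, C.bar_bar] at h1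
    rw [map_mul]
    linear_combination h1 - ((μ : F) * C.bar μ) * hc
  rw [map_mul] at hN1
  simp only [pmul, pinv, pconj, cpar, map_add, map_mul, map_neg, C.bar_bar, mul_one]
  linear_combination (1 + (μ : F) * C.bar μ) * hc + hN1

variable {Γ : Type v} [Group Γ]

/-- the subgroup generated by the conjugates of the central element -/
def centralPart (u h : Γ) (e : ℕ) : Subgroup Γ :=
  Subgroup.closure (Set.range (conjPow ⁅u, conjPow u (h ^ e) 1⁆ h))

variable [Finite F] {p : ℕ} [Fact p.Prime] [Algebra (ZMod p) F]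
  [Algebra (ZMod p) ↥(CfsgLib.Descent.fixedField C.bar)]

/-- the relations -/
structure BRels (π : Γ →* ↥(grp3 C)) (ω : Fˣ) (u₀ : Par C) (e j : ℕ) (u h : Γ) : Prop where
  hω : ∀ μ : Fˣ, ∃ n : ℕ, ω ^ n = μ
  ha : u₀.1.1 ≠ 0
  hη : ∀ β : F, ∃ f : (ZMod p)[X], aeval (lam C (ω ^ e)) f = β
  hnf : C.bar (lam C (ω ^ e)) ≠ lam C (ω ^ e)
  hu : π u = xel u₀
  hh : π h = hel C ω
  r1 : h ^ orderOf ω = 1
  hcen : ∀ i, Commute (conjPow ⁅u, conjPow u (h ^ e) 1⁆ h i) u
  hhu : h * u * h⁻¹ ∈ Subgroup.closure (Set.range (conjPow u (h ^ e)))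
  zp : ⁅u, conjPow u (h ^ e) 1⁆ ^ p = 1
  zμ : pw ⁅u, conjPow u (h ^ e) 1⁆ h
    (minpoly (ZMod p) (⟨(ω : F) * C.bar ω, C.norm_fixed _⟩ : ↥(CfsgLib.Descent.fixedField C.bar))) = 1
  d2 : ⁅u, conjPow u (h ^ e) 2⁆ ∈ centralPart u h e
  d3 : ⁅u, conjPow u (h ^ e) 3⁆ ∈ centralPart u h e
  trick : h ^ j * u * (h ^ j)⁻¹ *
    (u * (conjPow u (h ^ e) 1 ^ 3 * conjPow u (h ^ e) 2 ^ 3 * conjPow u (h ^ e) 3))⁻¹ ∈ centralPart u h e
  up : u ^ p ∈ centralPart u h e
  uμ : pw u (h ^ e) (minpoly (ZMod p) (lam C (ω ^ e))) ∈ centralPart u h e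

namespace BRels

variable {π : Γ →* ↥(grp3 C)} {ω : Fˣ} {u₀ : Par C} {e j : ℕ} {u h : Γ} (R : BRels (p := p) π ω u₀ e j u h)
include R

/-- the Borel subgroup -/
theorem exists_bor (w : Γ) (hw : π w = wel3 C) (hw2 : w * w = 1)
    (hwh : ∀ n : ℕ, tstar C ω = ω ^ n → w * h * w = h ^ n) :
    ∃ B : Bor π, B.w = w ∧ B.X u₀ = u ∧ B.H ω = h ∧
      Set.range B.X ∪ Set.range B.H ⊆ (Subgroup.closure ({u, h} : Set Γ) : Set Γ) := by
  classical
  set ε := h ^ e with hε
  set z := ⁅u, conjPow u ε 1⁆ with hz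
  set Zn := Subgroup.closure (Set.range (conjPow z h)) with hZn
  set M := Subgroup.closure (Set.range (conjPow u ε)) with hM
  set B0 := Subgroup.closure ({u, h} : Set Γ) with hB0
  set η := lam C (ω ^ e) with hηdef
  have hord : 0 < orderOf ω := orderOf_pos ω
  have hper : ∀ i, h ^ (i + orderOf ω) = h ^ i := fun i => by rw [pow_add, R.r1, mul_one]
  have hwd : ∀ i l : ℕ, ω ^ i = ω ^ l → h ^ i = h ^ l := fun i l hil => by
    have h1 := pow_eq_pow_iff_modEq.1 hil
    rw [← Nat.mod_add_div i (orderOf ω), ← Nat.mod_add_div l (orderOf ω), pow_add, pow_add, pow_mul, pow_mul,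
      R.r1, one_pow, one_pow, show i % orderOf ω = l % orderOf ω from h1]
  -- stability
  have uM : u ∈ M := Subgroup.subset_closure ⟨0, conjPow_zero u ε⟩
  have hMε : ∀ x ∈ M, ∀ k, ε ^ k * x * (ε ^ k)⁻¹ ∈ M := by
    intro x hx k
    induction hx using Subgroup.closure_induction with
    | mem x hx =>
      obtain ⟨l, rfl⟩ := hx
      exact Subgroup.subset_closure ⟨k + l, conjPow_add u ε k l⟩
    | one => simp
    | mul a b _ _ ha hb =>
      rw [show ε ^ k * (a * b) * (ε ^ k)⁻¹ = (ε ^ k * a * (ε ^ k)⁻¹) * (ε ^ k * b * (ε ^ k)⁻¹) by group]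
      exact mul_mem ha hb
    | inv a _ ha =>
      rw [show ε ^ k * a⁻¹ * (ε ^ k)⁻¹ = (ε ^ k * a * (ε ^ k)⁻¹)⁻¹ by group]
      exact inv_mem ha
  have hMh : ∀ x ∈ M, ∀ k : ℕ, h ^ k * x * (h ^ k)⁻¹ ∈ M := by
    have h1 : ∀ x ∈ M, h * x * h⁻¹ ∈ M := by
      intro x hx
      induction hx using Subgroup.closure_induction with
      | mem x hx =>
        obtain ⟨l, rfl⟩ := hx
        have hc : Commute h (ε ^ l) := ((Commute.refl h).pow_right e).pow_right l
        rw [show h * conjPow u ε l * h⁻¹ = ε ^ l * (h * u * h⁻¹) * (ε ^ l)⁻¹ by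
          calc h * (ε ^ l * u * (ε ^ l)⁻¹) * h⁻¹ = (h * ε ^ l) * u * (h * ε ^ l)⁻¹ := by group
            _ = (ε ^ l * h) * u * (ε ^ l * h)⁻¹ := by rw [hc.eq]
            _ = _ := by group]
        exact hMε _ R.hhu l
      | one => simp
      | mul a b _ _ ha hb =>
        rw [show h * (a * b) * h⁻¹ = (h * a * h⁻¹) * (h * b * h⁻¹) by group]
        exact mul_mem ha hb
      | inv a _ ha =>
        rw [show h * a⁻¹ * h⁻¹ = (h * a * h⁻¹)⁻¹ by group]
        exact inv_mem ha
    intro x hx k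
    induction k with
    | zero => simpa using hx
    | succ k ih =>
      have := h1 _ ih
      simpa [pow_succ', mul_assoc] using this
  have zM : z ∈ M := by
    have h1 : conjPow u ε 1 ∈ M := Subgroup.subset_closure ⟨1, rfl⟩
    rw [hz, commutatorElement_def]
    exact mul_mem (mul_mem (mul_mem uM h1) (inv_mem uM)) (inv_mem h1)
  have ZnM : Zn ≤ M := (Subgroup.closure_le _).2 (by rintro _ ⟨i, rfl⟩; exact hMh z zM i)
  -- centrality
  have hcu : ∀ i k : ℕ, Commute (conjPow z h i) (h ^ k * u * (h ^ k)⁻¹) := by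
    intro i k
    obtain ⟨l, hl⟩ : ∃ l, ω ^ (k + l) = ω ^ i := ⟨i + k * orderOf ω - k, by
      have : k ≤ i + k * orderOf ω := le_add_left (Nat.le_mul_of_pos_right k hord)
      rw [Nat.add_sub_cancel' this, pow_add, mul_comm k (orderOf ω), pow_mul, pow_orderOf_eq_one, one_pow, mul_one]⟩
    have h1 := (Commute.conj_iff (h ^ k)).2 (R.hcen l)
    rwa [← conjPow_add, show conjPow z h (k + l) = conjPow z h i by simp only [conjPow, hwd _ _ hl]] at h1
  have hcentral : ∀ x ∈ Zn, ∀ m ∈ M, Commute x m := by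
    refine fun x hx m hm => commute_closure ?_ hx hm
    rintro _ ⟨i, rfl⟩ _ ⟨k, rfl⟩
    simpa [conjPow, hε, ← pow_mul] using hcu i (e * k)
  -- the parametrisation of the centre
  set K := ↥(CfsgLib.Descent.fixedField C.bar)
  set N : K := ⟨(ω : F) * C.bar ω, C.norm_fixed _⟩ with hN
  have hNpow : ∀ c : K, c ≠ 0 → ∃ n : ℕ, N ^ n = c := by
    intro c hc
    obtain ⟨x, hx⟩ := C.exists_norm (c := (c : F)) c.2
    have x0 : x ≠ 0 := fun e => hc (Subtype.ext (by rw [← hx, e, zero_mul]; rfl))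
    obtain ⟨n, hn⟩ := R.hω (Units.mk0 x x0)
    refine ⟨n, Subtype.ext ?_⟩
    show ((ω : F) * C.bar ω) ^ n = c
    rw [mul_pow, ← map_pow, ← Units.val_pow_eq_pow_val, hn, Units.val_mk0, hx]
  obtain ⟨zc, zc_add, zc_one, zc_N, zc_pw⟩ := exists_param (u := z) (a := h) R.zp
    (fun i k => hcentral _ (Subgroup.subset_closure ⟨i, rfl⟩) _ (ZnM (Subgroup.subset_closure ⟨k, rfl⟩))) N
    (fun c => by
      by_cases hc : c = 0
      · exact ⟨0, by simp [hc]⟩
      · obtain ⟨n, hn⟩ := hNpow c hc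
        exact ⟨X ^ n, by simp [hn]⟩) R.zμ
  have zc_zero : zc 0 = 1 := by
    have := zc_add 0 0
    rwa [add_zero, left_eq_mul] at this
  have zc_pow : ∀ n, zc (N ^ n) = conjPow z h n := by
    intro n
    induction n with
    | zero => rw [pow_zero, zc_one, conjPow_zero]
    | succ n ih => rw [pow_succ', zc_N, ih, conjPow_succ]
  have zc_mem : ∀ c, zc c ∈ Zn := by
    intro c
    by_cases hc : c = 0
    · rw [hc, zc_zero]; exact one_mem _
    · obtain ⟨n, rfl⟩ := hNpow c hc
      rw [zc_pow]; exact Subgroup.subset_closure ⟨n, rfl⟩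
  have zc_surj : ∀ x ∈ Zn, ∃ c, zc c = x := by
    intro x hx
    induction hx using Subgroup.closure_induction with
    | mem x hx => obtain ⟨i, rfl⟩ := hx; exact ⟨_, zc_pow i⟩
    | one => exact ⟨0, zc_zero⟩
    | mul a b _ _ ha hb => obtain ⟨c, rfl⟩ := ha; obtain ⟨d, rfl⟩ := hb; exact ⟨_, zc_add c d⟩
    | inv a _ ha =>
      obtain ⟨c, rfl⟩ := ha
      exact ⟨-c, eq_inv_of_mul_eq_one_left (by rw [← zc_add, neg_add_cancel, zc_zero])⟩
  -- its value in the matrices
  set ζ := u₀.1.1 * C.bar u₀.1.1 * (C.bar η - η) with hζ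
  have ζ0 : ζ ≠ 0 := mul_ne_zero (mul_ne_zero R.ha ((map_ne_zero C.bar).2 R.ha)) (sub_ne_zero.2 R.hnf)
  have hπε : ∀ k, π (conjPow u ε k) = xel (pconj (ω ^ (e * k)) u₀) := by
    intro k
    simp only [conjPow, hε, map_mul, map_inv, map_pow, R.hh, R.hu, ← pow_mul, hel_pow, xel_conj_hel]
  let cp : K → Par C := fun c => ⟨(0, ζ * c), by
    simp only [map_mul, hζ, map_sub, C.bar_bar, show C.bar (c : F) = c from c.2, map_zero, mul_zero, add_zero]
    ring⟩
  have hπz : π z = xel (cp 1) := by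
    rw [hz, map_commutatorElement, hπε, R.hu, mul_one, commutator_xel]
    rfl
  have hπc : ∀ c : K, π (zc c) = xel (cp c) := by
    intro c
    by_cases hc : c = 0
    · rw [hc, zc_zero, map_one, ← xel_pone]
      congr 1
      exact Par.ext rfl (by simp [cp, pone])
    · obtain ⟨n, rfl⟩ := hNpow c hc
      rw [zc_pow, conjPow, map_mul, map_mul, map_inv, map_pow, R.hh, hπz, hel_pow, xel_conj_hel]
      congr 1
      refine Par.ext (by simp [pconj, cp]) ?_
      have hcoe : ((N ^ n : K) : F) = ((ω : F) * C.bar ω) ^ n := rfl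
      simp only [pconj, cp, hcoe, OneMemClass.coe_one, mul_one, Units.val_pow_eq_pow_val, map_pow, mul_pow]
      ring
  -- the quotient
  haveI hnorm : (Zn.subgroupOf B0).Normal := by
    refine ⟨fun x hx g => ?_⟩
    have hs : ∀ y ∈ Zn, ∀ k : ℕ, h ^ k * y * (h ^ k)⁻¹ ∈ Zn := by
      intro y hy k
      induction hy using Subgroup.closure_induction with
      | mem y hy => obtain ⟨i, rfl⟩ := hy; exact Subgroup.subset_closure ⟨k + i, conjPow_add z h k i⟩
      | one => simp
      | mul a b _ _ ha hb =>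
        rw [show h ^ k * (a * b) * (h ^ k)⁻¹ = (h ^ k * a * (h ^ k)⁻¹) * (h ^ k * b * (h ^ k)⁻¹) by group]
        exact mul_mem ha hb
      | inv a _ ha =>
        rw [show h ^ k * a⁻¹ * (h ^ k)⁻¹ = (h ^ k * a * (h ^ k)⁻¹)⁻¹ by group]
        exact inv_mem ha
    have key : ∀ y ∈ Zn, (g : Γ) * y * (g : Γ)⁻¹ ∈ Zn := by
      intro y hy
      obtain ⟨g, hg⟩ := g
      change g * y * g⁻¹ ∈ Zn
      revert y
      induction hg using Subgroup.closure_induction'' with
      | one => intro y hy; simpa using hy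
      | mem w' hw' =>
        intro y hy
        rcases hw' with rfl | rfl
        · rw [← (hcentral y hy _ uM).eq, mul_inv_cancel_right]; exact hy
        · simpa using hs y hy 1
      | inv_mem w' hw' =>
        intro y hy
        rcases hw' with rfl | rfl
        · rw [← (hcentral y hy _ (inv_mem uM)).eq, mul_inv_cancel_right]; exact hy
        · have e1 : w'⁻¹ = w' ^ (orderOf ω - 1) := inv_eq_of_mul_eq_one_right (by
            rw [← pow_succ', Nat.sub_add_cancel hord, R.r1])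
          rw [e1]
          exact hs y hy _
      | mul a b _ _ ha hb =>
        intro y hy
        rw [show a * b * y * (a * b)⁻¹ = a * (b * y * b⁻¹) * a⁻¹ by group]
        exact ha _ (hb _ hy)
    exact key x.1 hx
  let uB : ↥B0 := ⟨u, Subgroup.subset_closure (Or.inl rfl)⟩
  let hB : ↥B0 := ⟨h, Subgroup.subset_closure (Or.inr rfl)⟩
  let mk := QuotientGroup.mk' (Zn.subgroupOf B0)
  have mk1 : ∀ x : ↥B0, (x : Γ) ∈ Zn → mk x = 1 := fun x hx => (QuotientGroup.eq_one_iff x).2 hx
  set uQ := mk uB with huQ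
  set aQ := mk (hB ^ e) with haQ
  have cP : ∀ k, conjPow uQ aQ k = mk (conjPow uB (hB ^ e) k) := fun k => by
    simp only [conjPow, huQ, haQ, map_mul, map_inv, map_pow]
  have vP : ∀ k, ((conjPow uB (hB ^ e) k : ↥B0) : Γ) = conjPow u ε k := fun k => by
    simp [conjPow, uB, hB, hε]
  have comm : ∀ k, ⁅u, conjPow u ε k⁆ ∈ Zn → Commute uQ (conjPow uQ aQ k) := by
    intro k hk
    rw [cP, huQ, ← commutatorElement_eq_one_iff_commute, ← map_commutatorElement]
    refine mk1 _ ?_
    simpa [commutatorElement_def, vP, uB] using hk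
  have hcQ : ∀ i k, Commute (conjPow uQ aQ i) (conjPow uQ aQ k) := by
    refine commute_conjPow_four (b := mk (hB ^ j)) ?_ ?_ (comm 2 R.d2) (comm 3 R.d3) ?_
    · rw [haQ]; exact (Commute.pow_pow (Commute.refl hB) e j).map mk
    · exact comm 1 (by
        have hz0 : conjPow z h 0 ∈ Zn := Subgroup.subset_closure ⟨0, rfl⟩
        rwa [conjPow_zero] at hz0)
    · have h1 := mk1 (hB ^ j * uB * (hB ^ j)⁻¹ *
        (uB * (conjPow uB (hB ^ e) 1 ^ 3 * conjPow uB (hB ^ e) 2 ^ 3 * conjPow uB (hB ^ e) 3))⁻¹) (by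
          simp only [Subgroup.coe_mul, Subgroup.coe_inv, SubmonoidClass.coe_pow, vP, uB, hB]
          exact R.trick)
      simp only [map_mul, map_inv, map_pow, mul_inv_eq_one] at h1
      rw [cP, cP, cP, huQ]
      simpa only [map_mul, map_inv, map_pow] using h1
  obtain ⟨xc, xc_add, xc_one, xc_η, xc_pw⟩ := exists_param (u := uQ) (a := aQ)
    (by rw [huQ, ← map_pow]; exact mk1 _ (by simpa [uB] using (show u ^ p ∈ Zn from R.up))) hcQ η R.hη
    (by
      rw [huQ, haQ, ← map_pw]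
      refine mk1 _ ?_
      have := map_pw B0.subtype uB (hB ^ e) (minpoly (ZMod p) η)
      simp only [Subgroup.coe_subtype, SubmonoidClass.coe_pow, uB, hB] at this
      rw [this]
      exact R.uμ)
  have xc_zero : xc 0 = 1 := by
    have := xc_add 0 0
    rwa [add_zero, left_eq_mul] at this
  have MB : M ≤ B0 := (Subgroup.closure_le _).2 (by rintro _ ⟨k, rfl⟩; rw [← vP]; exact (conjPow uB (hB ^ e) k).2)
  have xc_pow : ∀ k, xc (η ^ k) = mk (conjPow uB (hB ^ e) k) := by
    intro k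
    rw [← cP]
    induction k with
    | zero => rw [pow_zero, xc_one, conjPow_zero]
    | succ k ih => rw [pow_succ', xc_η, ih, conjPow_succ]
  -- the image of an element
  have image : ∀ m (hm : m ∈ M), ∃ c, mk ⟨m, MB hm⟩ = xc c ∧ ∃ x : Par C, π m = xel x ∧ x.1.1 = c * u₀.1.1 := by
    intro m hm
    induction hm using Subgroup.closure_induction with
    | mem x hx =>
      obtain ⟨k, rfl⟩ := hx
      refine ⟨η ^ k, ?_, _, hπε k, ?_⟩
      · rw [xc_pow]; exact congrArg mk (Subtype.ext (vP k).symm)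
      · simp [pconj, hηdef, pow_mul, lam_pow]
    | one => exact ⟨0, by rw [xc_zero]; exact map_one mk, pone, by rw [map_one, xel_pone], by simp [pone]⟩
    | mul a b ha hb iha ihb =>
      obtain ⟨c, hc, x, hx, hxa⟩ := iha
      obtain ⟨d, hd, y, hy, hya⟩ := ihb
      refine ⟨c + d, ?_, pmul x y, by rw [map_mul, hx, hy, xel_mul], by simp [pmul, hxa, hya]; ring⟩
      rw [xc_add, ← hc, ← hd, ← map_mul]; rfl
    | inv a ha iha =>
      obtain ⟨c, hc, x, hx, hxa⟩ := iha
      refine ⟨-c, ?_, pinv x, by rw [map_inv, hx, xel_pinv], by simp [pinv, hxa]⟩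
      rw [eq_inv_of_mul_eq_one_left (show xc (-c) * xc c = 1 by rw [← xc_add, neg_add_cancel, xc_zero]), ← hc,
        ← map_inv]
      rfl
  have inj : ∀ m ∈ M, π m = 1 → m = 1 := by
    intro m hm h1
    obtain ⟨c, hc, x, hx, hxa⟩ := image m hm
    rw [h1, ← xel_pone] at hx
    obtain rfl := xel_inj hx
    have c0 : c = 0 := (mul_eq_zero.1 (hxa.symm.trans rfl)).resolve_right R.ha
    rw [c0, xc_zero] at hc
    obtain ⟨d, rfl⟩ := zc_surj m ((QuotientGroup.eq_one_iff (N := Zn.subgroupOf B0) _).1 hc)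
    rw [hπc, ← xel_pone] at h1
    have h2 := congrArg (fun x : Par C => x.1.2) (xel_inj h1)
    have d0 : d = 0 := Subtype.ext ((mul_eq_zero.1 h2).resolve_left ζ0)
    rw [d0, zc_zero]
  have inj' : ∀ a ∈ M, ∀ b ∈ M, π a = π b → a = b := fun a ha b hb hab =>
    mul_inv_eq_one.1 (inj _ (mul_mem ha (inv_mem hb)) (by rw [map_mul, map_inv, hab, mul_inv_cancel]))
  have surj : ∀ x : Par C, ∃ m ∈ M, π m = xel x := by
    intro x
    have hlift : ∀ f : (ZMod p)[X], ∃ m ∈ M, ∃ y : Par C, π m = xel y ∧ y.1.1 = aeval η f * u₀.1.1 := by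
      intro f
      induction f using Polynomial.induction_on' with
      | add f g hf hg =>
        obtain ⟨m, hm, y, hy, hya⟩ := hf
        obtain ⟨m', hm', y', hy', hya'⟩ := hg
        exact ⟨m * m', mul_mem hm hm', pmul y y', by rw [map_mul, hy, hy', xel_mul],
          by simp [pmul, hya, hya', add_mul]⟩
      | monomial i c =>
        rw [aeval_monomial, ← ZMod.natCast_zmod_val c, map_natCast]
        induction c.val with
        | zero => exact ⟨1, one_mem _, pone, by rw [map_one, xel_pone], by simp [pone]⟩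
        | succ k ih =>
          obtain ⟨m, hm, y, hy, hya⟩ := ih
          refine ⟨m * conjPow u ε i, mul_mem hm (Subgroup.subset_closure ⟨i, rfl⟩), pmul y (pconj (ω ^ (e * i)) u₀),
            by rw [map_mul, hy, hπε, xel_mul], ?_⟩
          simp [pmul, pconj, hya, hηdef, pow_mul, lam_pow]
          ring
    obtain ⟨f, hf⟩ := R.hη (x.1.1 / u₀.1.1)
    obtain ⟨m, hm, y, hy, hya⟩ := hlift f
    have hxy : y.1.1 = x.1.1 := by rw [hya, hf, div_mul_cancel₀ _ R.ha]
    have hd : C.bar ((pmul (pinv y) x).1.2) = -(pmul (pinv y) x).1.2 := by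
      have h1 := (pmul (pinv y) x).cond
      have h2 : (pmul (pinv y) x).1.1 = 0 := by simp [pmul, pinv, hxy]
      rw [h2, zero_mul, add_zero] at h1
      exact eq_neg_of_add_eq_zero_right h1
    let d : K := ⟨(pmul (pinv y) x).1.2 / ζ, by
      show C.bar _ = _
      rw [map_div₀, hd, hζ, map_mul, C.norm_fixed, map_sub, C.bar_bar,
        show u₀.1.1 * C.bar u₀.1.1 * (η - C.bar η) = -(u₀.1.1 * C.bar u₀.1.1 * (C.bar η - η)) by ring,
        neg_div_neg_eq]⟩
    refine ⟨m * zc d, mul_mem hm (ZnM (zc_mem d)), ?_⟩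
    rw [map_mul, hy, hπc, show cp d = pmul (pinv y) x from Par.ext (by simp [cp, pmul, pinv, hxy])
      (mul_div_cancel₀ _ ζ0), ← xel_mul, xel_pinv, mul_inv_cancel_left]
  choose X hXM hX using surj
  choose n hn using R.hω
  have hHwd : ∀ μ k, ω ^ k = μ → h ^ n μ = h ^ k := fun μ k hk => hwd _ _ ((hn μ).trans hk.symm)
  refine ⟨{
    X := X
    H := fun μ => h ^ n μ
    w := w
    hX := hX
    hH := fun μ => by rw [map_pow, R.hh, hel_pow, hn]
    hw := hw
    X_mul := fun a b => inj' _ (mul_mem (hXM a) (hXM b)) _ (hXM _) (by rw [map_mul, hX, hX, hX, xel_mul])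
    H_mul := fun μ ν => by rw [← pow_add]; exact (hHwd _ _ (by rw [pow_add, hn, hn])).symm
    H_X := fun μ a => by
      rw [← mul_inv_eq_iff_eq_mul]
      refine inj' _ (hMh _ (hXM a) _) _ (hXM _) ?_
      rw [map_mul, map_mul, map_inv, map_pow, R.hh, hel_pow, hn, hX, hX, xel_conj_hel]
    w_sq := hw2
    w_H := fun μ => by
      obtain ⟨k, hk⟩ := R.hω (tstar C ω)
      have h1 := hwh k hk.symm
      have h2 : ∀ i : ℕ, w * h ^ i * w = (h ^ k) ^ i := by
        intro i
        induction i with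
        | zero => rw [pow_zero, pow_zero, mul_one, hw2]
        | succ i ih =>
          rw [pow_succ _ i, pow_succ (h ^ k) i, ← ih, ← h1,
            show w * h ^ i * w * (w * h * w) = w * h ^ i * (w * w) * h * w by group, hw2, mul_one]
          group
      rw [h2, ← pow_mul]
      refine (hHwd _ _ ?_).symm
      rw [pow_mul, hk, ← tstar_pow, hn] }, rfl, ?_, ?_, ?_⟩
  · exact inj' _ (hXM _) _ uM (by rw [hX, R.hu])
  · show h ^ n ω = h
    rw [hHwd ω 1 (pow_one _), pow_one]
  · rintro x (⟨a, rfl⟩ | ⟨μ, rfl⟩)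
    · exact MB (hXM a)
    · exact pow_mem (show h ∈ B0 from Subgroup.subset_closure (Or.inr rfl)) _

end BRels

end CfsgLib.Lie.BoundedPres.SUThree
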