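import Cfsg.Agent.Lib.Lie.BoundedPres.SU3.Borel
import Cfsg.Agent.Lib.Lie.ShortPres.Choice

/-!
# Field facts for the presentation of `SU₃`
-/

set_option autoImplicit false

namespace CfsgLib.Lie.BoundedPres.SUThree

open Polynomial CfsgLib.SU CfsgLib.Lie.ShortPres

variable {F : Type*} [Field F] {q : ℕ} {C : UCtx F q}

theorem lam_eq_pow (μ : Fˣ) : lam C μ = ((μ ^ (2 * q - 1) : Fˣ) : F) := by
  have hq : 1 ≤ 2 * q := by have := C.q_ne_zero; omega
  rw [lam, C.bar_eq, Units.val_pow_eq_pow_val, div_eq_iff μ.ne_zero, ← pow_add, ← pow_succ, Nat.sub_add_cancel hq,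
    two_mul]

theorem lam_ne_zero (μ : Fˣ) : lam C μ ≠ 0 := by
  rw [lam_eq_pow]
  exact Units.ne_zero _

/-- cubes are multipliers -/
theorem exists_lam_eq_cube {ω : Fˣ} (hω : ∀ μ : Fˣ, ∃ n : ℕ, ω ^ n = μ) {c : F} (hc : c ≠ 0) :
    ∃ j, lam C (ω ^ j) = c ^ 3 := by
  have hb : C.bar c ≠ 0 := (map_ne_zero C.bar).2 hc
  obtain ⟨j, hj⟩ := hω (Units.mk0 (c⁻¹ * (c * C.bar c) ^ 2)
    (mul_ne_zero (inv_ne_zero hc) (pow_ne_zero _ (mul_ne_zero hc hb))))
  refine ⟨j, ?_⟩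
  rw [hj]
  simp [lam, C.bar_bar]
  field_simp

variable [Fintype F] {p : ℕ} [Fact p.Prime] [Algebra (ZMod p) F]

theorem dvd_of_fixed {ω : Fˣ} (hord : orderOf ω = q ^ 2 - 1) {e d : ℕ}
    (h : lam C (ω ^ e) ^ p ^ d = lam C (ω ^ e)) : q ^ 2 - 1 ∣ e * (2 * q - 1) * (p ^ d - 1) := by
  rw [lam_eq_pow, ← Units.val_pow_eq_pow_val, Units.val_inj, ← pow_mul, ← pow_mul, ← pow_mul, ← mul_assoc,
    pow_eq_pow_iff_modEq, hord] at h
  have hle : e * (2 * q - 1) ≤ e * (2 * q - 1) * p ^ d :=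
    Nat.le_mul_of_pos_right _ (pow_pos (Fact.out : p.Prime).pos d)
  have := (Nat.modEq_iff_dvd' hle).1 h.symm
  rwa [Nat.mul_sub_one]

theorem not_dvd_three {f d : ℕ} (hf : 1 ≤ f) (hd : 1 ≤ d) (hdf : d ≤ f) (h2 : p ^ f ≠ 2) (h5 : p ^ f ≠ 5)
    (h8 : p ^ f ≠ 8) : ¬ (p ^ f + 1) ∣ 3 * (p ^ d - 1) := by
  have hp : p.Prime := Fact.out
  rintro ⟨k, hk⟩
  have hpd : 2 ≤ p ^ d := hp.two_le.trans (Nat.le_self_pow (by omega) p)
  have hle : p ^ d ≤ p ^ f := Nat.pow_le_pow_right hp.pos hdf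
  have hk0 : 1 ≤ k := by
    rcases Nat.eq_zero_or_pos k with rfl | h
    · omega
    · exact h
  have hk2 : k ≤ 2 := by
    by_contra hcon
    have := Nat.mul_le_mul_left (p ^ f + 1) (show 3 ≤ k by omega)
    omega
  obtain ⟨s, hs⟩ : p ∣ p ^ d := dvd_pow_self p (by omega)
  obtain ⟨t, ht⟩ : p ∣ p ^ f := dvd_pow_self p (by omega)
  interval_cases k
  · -- `p = 2`
    have hp2 : p = 2 := by
      have h4 : p ∣ 4 := (Nat.dvd_add_right (dvd_mul_of_dvd_left ⟨t, ht⟩ 1)).1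
        (show p ∣ p ^ f * 1 + 4 by
          rw [show p ^ f * 1 + 4 = 3 * p ^ d by omega]; exact dvd_mul_of_dvd_right ⟨s, hs⟩ 3)
      exact (Nat.prime_dvd_prime_iff_eq hp Nat.prime_two).1 (hp.dvd_of_dvd_pow (show p ∣ 2 ^ 2 by simpa using h4))
    subst hp2
    rcases Nat.lt_or_ge d 3 with h | h
    · interval_cases d <;> omega
    · obtain ⟨d', rfl⟩ := Nat.exists_eq_add_of_le h
      obtain ⟨f', rfl⟩ := Nat.exists_eq_add_of_le (show 3 ≤ f by omega)
      simp only [pow_add] at hk hpd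
      omega
  · -- `p = 5`
    have hp5 : p = 5 := by
      have h5' : p ∣ 5 := (Nat.dvd_add_right (dvd_mul_of_dvd_left ⟨t, ht⟩ 2)).1
        (show p ∣ p ^ f * 2 + 5 by
          rw [show p ^ f * 2 + 5 = 3 * p ^ d by omega]; exact dvd_mul_of_dvd_right ⟨s, hs⟩ 3)
      exact (Nat.prime_dvd_prime_iff_eq hp (by norm_num)).1 h5'
    subst hp5
    rcases Nat.lt_or_ge d 2 with h | h
    · interval_cases d
      omega
    · obtain ⟨d', rfl⟩ := Nat.exists_eq_add_of_le h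
      obtain ⟨f', rfl⟩ := Nat.exists_eq_add_of_le (show 2 ≤ f by omega)
      simp only [pow_add] at hk hpd
      omega

/-- an exponent whose multiplier generates, and which fixes the centre unless the field is small -/
theorem exists_shift {f : ℕ} (hq : q = p ^ f) (hf : 1 ≤ f) (hF : Fintype.card F = q ^ 2) (h2 : q ≠ 2) {ω : Fˣ}
    (hord : orderOf ω = q ^ 2 - 1) :
    ∃ e, (∀ β : F, ∃ g : (ZMod p)[X], aeval (lam C (ω ^ e)) g = β) ∧
      C.bar (lam C (ω ^ e)) ≠ lam C (ω ^ e) ∧ (((ω : F) * C.bar ω) ^ e = 1 ∨ f ≤ 3) := by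
  suffices h : ∃ e, (∀ d, 1 ≤ d → d ≤ f → ¬ q ^ 2 - 1 ∣ e * (2 * q - 1) * (p ^ d - 1)) ∧
      (((ω : F) * C.bar ω) ^ e = 1 ∨ f ≤ 3) by
    obtain ⟨e, he, hc⟩ := h
    have hne : ∀ d, 1 ≤ d → d ≤ f → lam C (ω ^ e) ^ p ^ d ≠ lam C (ω ^ e) := fun d h1 h2 h => he d h1 h2
      (dvd_of_fixed hord h)
    refine ⟨e, fun β => exists_aeval_eq (n := 2 * f) (by rw [hF, hq, ← pow_mul, mul_comm]) _
      (fun d h1 h2 => hne d h1 (by omega)) β, ?_, hc⟩
    intro h
    refine hne f hf le_rfl ?_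
    rw [C.bar_eq] at h
    rwa [← hq]
  have hq2 : q * q = q ^ 2 := (sq q).symm
  have hq1 : 2 ≤ q := hq ▸ (Fact.out : p.Prime).two_le.trans (Nat.le_self_pow (by omega) p)
  by_cases hsmall : q = 5 ∨ q = 8
  · refine ⟨1, ?_, Or.inr ?_⟩
    · intro d hd hdf h
      rcases hsmall with h5 | h8
      · obtain rfl : p = 5 := (Nat.prime_dvd_prime_iff_eq Fact.out (by norm_num)).1
          (h5 ▸ hq ▸ dvd_pow_self p (by omega))
        obtain rfl : f = 1 := Nat.pow_right_injective (show 2 ≤ 5 by norm_num) (by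
          show 5 ^ f = 5 ^ 1
          rw [← hq, h5, pow_one])
        interval_cases d
        subst h5
        norm_num at h
      · obtain rfl : p = 2 := (Nat.prime_dvd_prime_iff_eq Fact.out Nat.prime_two).1
          ((Fact.out : p.Prime).dvd_of_dvd_pow (show p ∣ 2 ^ 3 by
            rw [show (2 : ℕ) ^ 3 = p ^ f by rw [← hq, h8]; norm_num]; exact dvd_pow_self p (by omega)))
        obtain rfl : f = 3 := Nat.pow_right_injective (le_refl 2) (by
          show 2 ^ f = 2 ^ 3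
          rw [← hq, h8])
        subst h8
        interval_cases d <;> norm_num at h
    · rcases hsmall with h5 | h8
      · have : f < 4 := (Nat.pow_lt_pow_iff_right (Fact.out : p.Prime).one_lt).1 (by
          rw [← hq, h5]
          exact lt_of_lt_of_le (by norm_num) (Nat.pow_le_pow_left (Fact.out : p.Prime).two_le 4))
        omega
      · have : f < 4 := (Nat.pow_lt_pow_iff_right (Fact.out : p.Prime).one_lt).1 (by
          rw [← hq, h8]
          exact lt_of_lt_of_le (by norm_num) (Nat.pow_le_pow_left (Fact.out : p.Prime).two_le 4))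
        omega
  · push Not at hsmall
    refine ⟨q - 1, ?_, Or.inl ?_⟩
    · intro d hd hdf h
      refine not_dvd_three hf hd hdf (hq ▸ h2) (hq ▸ hsmall.1) (hq ▸ hsmall.2) ?_
      rw [show q ^ 2 - 1 = (q - 1) * (q + 1) by
        rw [show q ^ 2 = q * q from sq q, Nat.sub_mul, one_mul, mul_add, mul_one]; omega, mul_assoc] at h
      have h' := Nat.dvd_of_mul_dvd_mul_left (by omega) h
      rw [← hq]
      have he : (2 * q - 1) * (p ^ d - 1) + 3 * (p ^ d - 1) = 2 * (p ^ d - 1) * (q + 1) := by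
        rw [← add_mul, show 2 * q - 1 + 3 = 2 * (q + 1) by omega]; ring
      exact (Nat.dvd_add_right h').1 (he ▸ Dvd.intro_left _ rfl)
    · rw [C.bar_eq, ← pow_succ', ← pow_mul, show (q + 1) * (q - 1) = q ^ 2 - 1 by
        rw [show q ^ 2 = q * q from sq q, Nat.mul_sub, mul_one, add_mul, one_mul]; omega, ← hord,
        ← Units.val_pow_eq_pow_val, pow_orderOf_eq_one, Units.val_one]

end CfsgLib.Lie.BoundedPres.SUThree
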