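import Cfsg.Agent.Lib.Lie.BoundedPres.SU3.Field
import Cfsg.Agent.Lib.Lie.BoundedPres.SysPres

/-!
# The presentation of `SU₃`: three generators and eighteen relations
-/

set_option autoImplicit false
set_option maxHeartbeats 1000000

namespace CfsgLib.Lie.BoundedPres.SUThree

open Polynomial CfsgLib.SU CfsgLib.Lie.ShortPres
open scoped commutatorElement

universe u v

theorem map_conjPow {G H : Type*} [Group G] [Group H] (φ : G →* H) (u a : G) (i : ℕ) :
    φ (conjPow u a i) = conjPow (φ u) (φ a) i := by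
  simp [conjPow]

/-- a relation carried through the word of a polynomial -/
theorem pw_rel {G R : Type*} [Group G] [CommRing R] {p : ℕ} [NeZero p] [Algebra (ZMod p) R] {P : G → R → Prop}
    (h1 : P 1 0) (hm : ∀ x y c d, P x c → P y d → P (x * y) (c + d)) {u a : G} {η : R}
    (hu : ∀ l, P (conjPow u a l) (η ^ l)) (f : (ZMod p)[X]) : P (pw u a f) (aeval η f) := by
  have hpow : ∀ x c (n : ℕ), P x c → P (x ^ n) ((n : R) * c) := by
    intro x c n hx
    induction n with
    | zero => simpa using h1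
    | succ n ih => rw [pow_succ, Nat.cast_succ, add_mul, one_mul]; exact hm _ _ _ _ ih hx
  rw [pw, aeval_eq_sum_range]
  induction f.natDegree + 1 with
  | zero => simpa using h1
  | succ n ih =>
    rw [List.range_succ, List.map_append, List.prod_append, List.map_singleton, List.prod_singleton,
      Finset.sum_range_succ]
    refine hm _ _ _ _ ih ?_
    have h := hpow _ _ (f.coeff n).val (hu n)
    rwa [← map_natCast (algebraMap (ZMod p) R), ZMod.natCast_zmod_val, ← Algebra.smul_def] at h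

theorem natDegree_minpoly_le {K : Type*} [Field K] [Finite K] {p f : ℕ} [Fact p.Prime] [Algebra (ZMod p) K]
    (h : Nat.card K = p ^ f) (x : K) : (minpoly (ZMod p) x).natDegree ≤ f := by
  have h1 := minpoly.natDegree_le (A := ZMod p) x
  have h2 := Module.natCard_eq_pow_finrank (K := ZMod p) (V := K)
  rw [Nat.card_zmod, h] at h2
  rwa [← Nat.pow_right_injective (Fact.out : p.Prime).two_le h2] at h1

theorem centralPart_map {G H : Type*} [Group G] [Group H] (φ : G →* H) (u h : G) (e : ℕ) :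
    (centralPart u h e).map φ = centralPart (φ u) (φ h) e := by
  rw [centralPart, centralPart, MonoidHom.map_closure, ← Set.range_comp]
  congr 2
  funext i
  simp only [Function.comp_apply, map_conjPow, map_commutatorElement, map_pow]

theorem conjSpan_map {G H : Type*} [Group G] [Group H] (φ : G →* H) (u h : G) (e : ℕ) :
    (Subgroup.closure (Set.range (conjPow u (h ^ e)))).map φ =
      Subgroup.closure (Set.range (conjPow (φ u) (φ h ^ e))) := by
  rw [MonoidHom.map_closure, ← Set.range_comp]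
  congr 2
  funext i
  simp only [Function.comp_apply, map_conjPow, map_pow]

variable {F : Type u} [Field F] {q : ℕ} {C : UCtx F q}

/-- a root element with given short coordinate -/
def Coord (A : ↥(grp3 C)) (c : F) : Prop := ∃ x : Par C, A = xel x ∧ x.1.1 = c

theorem Coord.one : Coord (1 : ↥(grp3 C)) 0 := ⟨pone, xel_pone.symm, rfl⟩

theorem Coord.mul {A B : ↥(grp3 C)} {c d : F} (hA : Coord A c) (hB : Coord B d) : Coord (A * B) (c + d) := by
  obtain ⟨x, rfl, rfl⟩ := hA
  obtain ⟨y, rfl, rfl⟩ := hB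
  exact ⟨pmul x y, xel_mul x y, rfl⟩

theorem Coord.inv {A : ↥(grp3 C)} {c : F} (hA : Coord A c) : Coord A⁻¹ (-c) := by
  obtain ⟨x, rfl, rfl⟩ := hA
  exact ⟨pinv x, (xel_pinv x).symm, rfl⟩

theorem Coord.pow {A : ↥(grp3 C)} {c : F} (hA : Coord A c) (n : ℕ) : Coord (A ^ n) (n * c) := by
  induction n with
  | zero => simpa using Coord.one
  | succ n ih => rw [pow_succ, Nat.cast_succ, add_mul, one_mul]; exact ih.mul hA

theorem commute_center {x y : Par C} (hx : x.1.1 = 0) : Commute (xel x) (xel y) := by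
  show xel x * xel y = xel y * xel x
  rw [xel_mul, xel_mul]
  congr 1
  refine Par.ext (by simp [pmul, hx]) ?_
  simp [pmul, hx]
  ring

theorem conjPow_model (x : Par C) (μ : Fˣ) (l : ℕ) : conjPow (xel x) (hel C μ) l = xel (pconj (μ ^ l) x) := by
  rw [conjPow, hel_pow, xel_conj_hel]

namespace Bor

variable {Γ : Type v} [Group Γ] {π : Γ →* ↥(grp3 C)} (B : Bor π)
include B

/-- the projection is injective on the Borel subgroup -/
theorem inj_small {u₀ : Par C} {ω : Fˣ} {x y : Γ} (hx : x ∈ Subgroup.closure ({B.X u₀, B.H ω} : Set Γ))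
    (hy : y ∈ Subgroup.closure ({B.X u₀, B.H ω} : Set Γ)) (h : π x = π y) : x = y := by
  have cell : ∀ g ∈ Subgroup.closure ({B.X u₀, B.H ω} : Set Γ), ∃ p μ, g = B.X p * B.H μ := by
    intro g hg
    induction hg using Subgroup.closure_induction with
    | mem g hg =>
      rcases hg with rfl | rfl
      exacts [⟨u₀, 1, by rw [B.H_one, mul_one]⟩, ⟨pone, ω, by rw [B.X_one, one_mul]⟩]
    | one => exact ⟨pone, 1, by rw [B.X_one, B.H_one, one_mul]⟩
    | mul a b _ _ ha hb =>
      obtain ⟨p, μ, rfl⟩ := ha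
      obtain ⟨p', μ', rfl⟩ := hb
      refine ⟨pmul p (pconj μ p'), μ * μ', ?_⟩
      rw [← B.X_mul, ← B.H_mul, show B.X p * B.H μ * (B.X p' * B.H μ') = B.X p * (B.H μ * B.X p') * B.H μ' by group,
        B.H_X]
      group
    | inv a _ ha =>
      obtain ⟨p, μ, rfl⟩ := ha
      exact ⟨pconj μ⁻¹ (pinv p), μ⁻¹, by rw [_root_.mul_inv_rev, B.X_inv, B.H_inv, B.H_X]⟩
  obtain ⟨p, μ, e⟩ := cell (x * y⁻¹) (mul_mem hx (inv_mem hy))
  have h1 : π (B.X p * B.H μ) = 1 := by rw [← e, map_mul, map_inv, h, mul_inv_cancel]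
  rw [map_mul, B.hX, B.hH] at h1
  obtain ⟨rfl, rfl⟩ := small_unique h1
  rwa [B.X_one, B.H_one, mul_one, mul_inv_eq_one] at e

end Bor

section model

variable [Finite F] {p : ℕ} [Fact p.Prime] [Algebra (ZMod p) F] {ω : Fˣ} {u₀ : Par C} {e : ℕ}

theorem center_mem (hω : ∀ μ : Fˣ, ∃ n : ℕ, ω ^ n = μ) (ha : u₀.1.1 ≠ 0)
    (hnf : C.bar (lam C (ω ^ e)) ≠ lam C (ω ^ e)) (x : Par C) (hx : x.1.1 = 0) :
    xel x ∈ centralPart (xel u₀) (hel C ω) e := by
  by_cases hb : x = pone
  · rw [hb, xel_pone]; exact one_mem _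
  set ζ := u₀.1.1 * C.bar u₀.1.1 * (C.bar (lam C (ω ^ e)) - lam C (ω ^ e)) with hζ
  have ζ0 : ζ ≠ 0 := mul_ne_zero (mul_ne_zero ha ((map_ne_zero C.bar).2 ha)) (sub_ne_zero.2 hnf)
  have b0 := par_b_ne hb
  have hc : C.bar (x.1.2 / ζ) = x.1.2 / ζ := by
    have h1 := x.cond
    rw [hx, zero_mul, add_zero] at h1
    rw [map_div₀, eq_neg_of_add_eq_zero_right h1, hζ, map_mul, C.norm_fixed, map_sub, C.bar_bar,
      show u₀.1.1 * C.bar u₀.1.1 * (lam C (ω ^ e) - C.bar (lam C (ω ^ e))) =
        -(u₀.1.1 * C.bar u₀.1.1 * (C.bar (lam C (ω ^ e)) - lam C (ω ^ e))) by ring, neg_div_neg_eq]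
  obtain ⟨y, hy⟩ := C.exists_norm hc
  have y0 : y ≠ 0 := fun h => by rw [h, zero_mul] at hy; exact div_ne_zero b0 ζ0 hy.symm
  obtain ⟨n, hn⟩ := hω (Units.mk0 y y0)
  refine Subgroup.subset_closure ⟨n, ?_⟩
  rw [hel_pow, conjPow_model u₀, pow_one, commutator_xel, conjPow_model, hn]
  congr 1
  refine Par.ext (by simp [pconj, cpar, hx]) ?_
  show y * C.bar y * (ζ * 1) = x.1.2
  rw [mul_one, hy, div_mul_cancel₀ _ ζ0]

theorem xel_mem_span (ha : u₀.1.1 ≠ 0) (hη : ∀ β : F, ∃ f : (ZMod p)[X], aeval (lam C (ω ^ e)) f = β) (x : Par C) :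
    xel x ∈ Subgroup.closure (Set.range (conjPow (xel u₀) (hel C ω ^ e))) := by
  set M := Subgroup.closure (Set.range (conjPow (xel u₀) (hel C ω ^ e))) with hM
  have lift : ∀ c : F, ∃ y : Par C, xel y ∈ M ∧ y.1.1 = c := by
    intro c
    obtain ⟨f, hf⟩ := hη (c / u₀.1.1)
    have key := pw_rel (p := p) (u := xel u₀) (a := hel C ω ^ e) (η := lam C (ω ^ e))
      (P := fun A c => A ∈ M ∧ Coord A (c * u₀.1.1)) ⟨one_mem _, by simpa using Coord.one⟩
      (fun A B c d hA hB => ⟨mul_mem hA.1 hB.1, by rw [add_mul]; exact hA.2.mul hB.2⟩)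
      (fun l => ⟨Subgroup.subset_closure ⟨l, rfl⟩, by
        rw [hel_pow, conjPow_model]
        exact ⟨_, rfl, by simp [pconj, lam_pow]⟩⟩) f
    obtain ⟨y, hy, hyc⟩ := key.2
    exact ⟨y, hy ▸ key.1, by rw [hyc, hf, div_mul_cancel₀ _ ha]⟩
  choose y hyM hya using lift
  have central : ∀ z : Par C, z.1.1 = 0 → xel z ∈ M := by
    intro z hz
    obtain ⟨t, ht⟩ := C.exists_trace (map_one C.bar)
    set β := -(t * z.1.2) with hβ
    have h := z.cond
    rw [hz, zero_mul, add_zero] at h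
    have hd : C.bar β - β = z.1.2 := by
      rw [hβ, map_neg, map_mul, eq_neg_of_add_eq_zero_right h]
      linear_combination z.1.2 * ht
    have e0 : xel z = xel (y 1) * xel (y β) * (xel (y 1))⁻¹ * (xel (y β))⁻¹ := by
      rw [← xel_pinv, ← xel_pinv, xel_mul, xel_mul, xel_mul]
      congr 1
      refine Par.ext (by simp [pmul, pinv, hz]) ?_
      have h1 := (y 1).cond
      have h2 := (y β).cond
      simp only [hya, map_one, mul_one] at h1 h2
      simp only [pmul, pinv, hya, map_add, map_neg, map_one]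
      linear_combination -hd - h1 - h2
    rw [e0]
    exact mul_mem (mul_mem (mul_mem (hyM 1) (hyM β)) (inv_mem (hyM 1))) (inv_mem (hyM β))
  have e0 : xel x = xel (y x.1.1) * xel (pmul (pinv (y x.1.1)) x) := by
    rw [← xel_mul, xel_pinv, mul_inv_cancel_left]
  rw [e0]
  exact mul_mem (hyM _) (central _ (by simp [pmul, pinv, hya]))

end model

variable (C)

/-- three generators and eighteen relations -/
theorem sys_grp3 [Fintype F] (hF : Fintype.card F = q ^ 2) (h2 : q ≠ 2) : HasSysJ ↥(grp3 C) 3 18 0 := by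
  classical
  obtain ⟨p, hp⟩ := CharP.exists F
  obtain ⟨k, hpp, hk⟩ := FiniteField.card F p
  haveI : Fact p.Prime := ⟨hpp⟩
  obtain ⟨f, -, hq⟩ := (Nat.dvd_prime_pow hpp).1 (show q ∣ p ^ (k : ℕ) from hk ▸ hF ▸ dvd_pow_self q two_ne_zero)
  have hf : 1 ≤ f := by
    rcases Nat.eq_zero_or_pos f with h0 | h0
    · exfalso
      have h1 := Fintype.one_lt_card (α := F)
      rw [hF, hq, h0] at h1
      simp at h1
    · exact h0
  letI : Algebra (ZMod p) F := ZMod.algebra F p
  haveI : CharP ↥(CfsgLib.Descent.fixedField C.bar) p :=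
    (RingHom.charP_iff (CfsgLib.Descent.fixedField C.bar).subtype Subtype.val_injective p).2 inferInstance
  letI : Algebra (ZMod p) ↥(CfsgLib.Descent.fixedField C.bar) := ZMod.algebra _ p
  -- the data
  obtain ⟨ω, hgen⟩ := IsCyclic.exists_monoid_generator (α := Fˣ)
  have hω : ∀ μ : Fˣ, ∃ n : ℕ, ω ^ n = μ := fun μ => Submonoid.mem_powers_iff μ ω |>.1 (hgen μ)
  have hord : orderOf ω = q ^ 2 - 1 := by
    rw [orderOf_eq_card_of_forall_mem_zpowers fun x => ?_, Nat.card_eq_fintype_card, Fintype.card_units, hF]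
    obtain ⟨m, hm⟩ := hω x
    exact ⟨m, by simpa using hm⟩
  have hω' : ∀ s : F, s ≠ 0 → ∃ n : ℕ, (ω : F) ^ n = s := fun s hs => by
    obtain ⟨n, hn⟩ := hω (Units.mk0 s hs)
    exact ⟨n, by rw [← Units.val_pow_eq_pow_val, hn, Units.val_mk0]⟩
  have hωnf : C.bar (ω : F) ≠ ω := fun h => by
    obtain ⟨y, hy⟩ := C.exists_not_fixed
    refine hy ?_
    obtain ⟨n, rfl⟩ := hω' y (fun h0 => hy (by rw [h0, map_zero]))
    rw [map_pow, h]
  obtain ⟨δ, hδ, hδ'⟩ := C.exists_trace_zero
  have hδb : C.bar δ = -δ := eq_neg_of_add_eq_zero_right hδ'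
  obtain ⟨e, hη, hnf, hC⟩ := exists_shift (C := C) (p := p) hq hf hF h2 hord
  obtain ⟨j, hj⟩ := exists_lam_eq_cube (C := C) hω (c := 1 + lam C (ω ^ e)) fun h => hnf (by
    rw [eq_neg_of_add_eq_zero_right h, map_neg, map_one])
  obtain ⟨kw, hkw⟩ := hω (tstar C ω)
  have hd : δ * ((ω : F) - C.bar ω) ≠ 0 := mul_ne_zero hδ (sub_ne_zero.2 (Ne.symm hωnf))
  have hcond : ∀ c : F, (-(c * C.bar c) / (δ * ((ω : F) - C.bar ω))) * δ * ω +
      C.bar ((-(c * C.bar c) / (δ * ((ω : F) - C.bar ω))) * δ * ω) + c * C.bar c = 0 := fun c => by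
    have hb : C.bar (δ * ((ω : F) - C.bar ω)) = δ * ((ω : F) - C.bar ω) := by
      rw [map_mul, hδb, map_sub, C.bar_bar]; ring
    rw [map_mul, map_mul, map_div₀, map_neg, C.norm_fixed, hb, hδb]
    field_simp
    ring
  let s : Fin 3 → Par C := fun i => ⟨((ω : F) ^ i.val,
    (-((ω : F) ^ i.val * C.bar ((ω : F) ^ i.val)) / (δ * ((ω : F) - C.bar ω))) * δ * ω), hcond _⟩
  set u₀ := s 0 with hu₀
  have hu1 : u₀.1.1 = 1 := by simp [hu₀, s]
  have hu0 : u₀.1.1 ≠ 0 := by rw [hu1]; exact one_ne_zero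
  set η := lam C (ω ^ e) with hηdef
  let zc : Par C := cpar C u₀.1.1 η 1 (map_one _)
  have hzc : zc ≠ pone := fun h => by
    have := congrArg (fun x : Par C => x.1.2) h
    simp [zc, cpar, pone, hu1, sub_eq_zero, hηdef] at this
    exact hnf this
  -- words
  let g : Fin 3 → ↥(grp3 C) := ![xel u₀, hel C ω, wel3 C]
  let ev : FreeGroup (Fin 3) →* ↥(grp3 C) := FreeGroup.lift g
  set U : FreeGroup (Fin 3) := FreeGroup.of 0 with hU
  set Hh : FreeGroup (Fin 3) := FreeGroup.of 1 with hHh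
  set W : FreeGroup (Fin 3) := FreeGroup.of 2 with hW
  have evU : ev U = xel u₀ := by simp [ev, g, U]
  have evH : ev Hh = hel C ω := by simp [ev, g, Hh]
  have evW : ev W = wel3 C := by simp [ev, g, W]
  set Mw := Subgroup.closure (Set.range (conjPow U (Hh ^ e))) with hMw
  set Cw := centralPart U Hh e with hCw
  set Bw := Subgroup.closure ({U, Hh} : Set (FreeGroup (Fin 3))) with hBw
  have hMB : Mw ≤ Bw := (Subgroup.closure_le _).2 (by
    rintro _ ⟨i, rfl⟩
    have h1 : U ∈ Bw := Subgroup.subset_closure (Or.inl rfl)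
    have h2 : (Hh ^ e) ^ i ∈ Bw := pow_mem (pow_mem (show Hh ∈ Bw from Subgroup.subset_closure (Or.inr rfl)) _) _
    exact mul_mem (mul_mem h2 h1) (inv_mem h2))
  have wM : ∀ x : Par C, ∃ v ∈ Mw, ev v = xel x := fun x => by
    have : xel x ∈ Mw.map ev := by rw [hMw, conjSpan_map, evU, evH]; exact xel_mem_span hu0 hη x
    exact this
  have wC : ∀ A : ↥(grp3 C), Coord A 0 → ∃ v ∈ Cw, ev v = A := fun A ⟨x, hA, hx⟩ => by
    have : A ∈ Cw.map ev := by rw [hCw, centralPart_map, evU, evH, hA]; exact center_mem hω hu0 hnf x hx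
    exact this
  choose word wordM wordv using wM
  have cU : ∀ l, Coord (ev (conjPow U (Hh ^ e) l)) (η ^ l) := fun l => by
    rw [map_conjPow, map_pow, evU, evH, hel_pow, conjPow_model]
    exact ⟨_, rfl, by simp [pconj, hu1, lam_pow, hηdef]⟩
  have cU0 : Coord (ev U) 1 := by simpa [conjPow_zero] using cU 0
  set Z := ⁅U, conjPow U (Hh ^ e) 1⁆ with hZ
  have evZ : ev Z = xel zc := by
    rw [hZ, map_commutatorElement, map_conjPow, map_pow, evU, evH, hel_pow, conjPow_model, pow_one, commutator_xel]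
  have cComm : ∀ l, Coord (ev ⁅U, conjPow U (Hh ^ e) l⁆) 0 := fun l => by
    have h := ((cU0.mul (cU l)).mul cU0.inv).mul (cU l).inv
    rw [← map_inv, ← map_inv, ← map_mul, ← map_mul, ← map_mul] at h
    rw [commutatorElement_def]
    convert h using 1
    ring
  obtain ⟨v2, hv2, ev2⟩ := wC _ (cComm 2)
  obtain ⟨v3, hv3, ev3⟩ := wC _ (cComm 3)
  set T := Hh ^ j * U * (Hh ^ j)⁻¹ *
    (U * (conjPow U (Hh ^ e) 1 ^ 3 * conjPow U (Hh ^ e) 2 ^ 3 * conjPow U (Hh ^ e) 3))⁻¹ with hT
  obtain ⟨vt, hvt, evt⟩ := wC (ev T) (by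
    have h1 : Coord (ev (Hh ^ j * U * (Hh ^ j)⁻¹)) (lam C (ω ^ j)) := by
      rw [map_mul, map_mul, map_inv, map_pow, evU, evH, hel_pow, xel_conj_hel]
      exact ⟨_, rfl, by simp [pconj, hu1]⟩
    have h2 := h1.mul (cU0.mul ((((cU 1).pow 3).mul ((cU 2).pow 3)).mul (cU 3))).inv
    simp only [← map_pow, ← map_mul, ← map_inv] at h2
    rw [hT]
    convert h2 using 1
    rw [hj]
    ring)
  obtain ⟨vp, hvp, evp⟩ := wC (ev (U ^ p)) (by
    have h := cU0.pow p
    rw [CharP.cast_eq_zero, zero_mul, ← map_pow] at h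
    exact h)
  obtain ⟨vμ, hvμ, evμ⟩ := wC (ev (pw U (Hh ^ e) (minpoly (ZMod p) η))) (by
    have h := pw_rel (p := p) (u := ev U) (a := ev (Hh ^ e)) (η := η) (P := Coord (C := C)) Coord.one
      (fun _ _ _ _ => Coord.mul) (fun l => by rw [← map_conjPow]; exact cU l) (minpoly (ZMod p) η)
    rwa [minpoly.aeval, ← map_pw] at h)
  set K := ↥(CfsgLib.Descent.fixedField C.bar)
  set N : K := ⟨(ω : F) * C.bar ω, C.norm_fixed _⟩ with hN
  set μN := minpoly (ZMod p) N with hμN
  have hdeg : μN.natDegree ≤ f := natDegree_minpoly_le (by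
    rw [(CfsgLib.Descent.card_fixedField (p := p) (f := 2 * f) hpp
      (by rw [hF, hq, ← pow_mul, mul_comm]) C.order_two two_pos).2, Nat.mul_div_cancel_left f two_pos]) N
  let Pz : ↥(grp3 C) → K → Prop := fun A c => A = xel (cpar C u₀.1.1 η c c.2)
  have Pz1 : Pz 1 0 := by
    show 1 = xel _
    rw [← xel_pone]; congr 1
    exact Par.ext rfl (by simp [cpar, pone])
  have Pzm : ∀ A B c d, Pz A c → Pz B d → Pz (A * B) (c + d) := by
    intro A B c d hA hB
    simp only [Pz] at hA hB ⊢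
    rw [hA, hB, xel_mul]; congr 1
    exact Par.ext (by simp [pmul, cpar]) (by
      have hcd : ((c + d : K) : F) = (c : F) + d := rfl
      simp [pmul, cpar, hcd]; ring)
  have evzp : ev (Z ^ p) = 1 := by
    rw [map_pow, evZ]
    have : ∀ n : ℕ, Pz (xel zc ^ n) (n : K) := by
      intro n
      induction n with
      | zero => simpa using Pz1
      | succ n ih => rw [pow_succ, Nat.cast_succ]; exact Pzm _ _ _ _ ih rfl
    have h := this p
    simp only [CharP.cast_eq_zero, Pz] at h
    rw [h, ← xel_pone]; congr 1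
    exact Par.ext rfl (by simp [cpar, pone])
  have evzμ : ev (pw Z Hh μN) = 1 := by
    have h := pw_rel (p := p) (u := ev Z) (a := ev Hh) (η := N) (P := Pz) Pz1 Pzm (fun l => by
      show conjPow (ev Z) (ev Hh) l = _
      rw [evZ, evH, conjPow_model]
      congr 1
      refine Par.ext (by simp [pconj, cpar, zc]) ?_
      have hcoe : ((N ^ l : K) : F) = ((ω : F) * C.bar ω) ^ l := rfl
      simp only [pconj, cpar, zc, hcoe, mul_one, Units.val_pow_eq_pow_val, map_pow, mul_pow]
      ring) μN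
    rw [← map_pw, hμN, minpoly.aeval] at h
    simp only [Pz] at h
    rw [h, ← xel_pone]; congr 1
    exact Par.ext rfl (by simp [cpar, pone])
  let cen : List (FreeGroup (Fin 3)) := if ((ω : F) * C.bar ω) ^ e = 1 then
    [⁅Z, U⁆, Hh ^ e * Z * (Hh ^ e)⁻¹ * Z⁻¹] else (List.range μN.natDegree).map fun i => ⁅conjPow Z Hh i, U⁆
  let pS : Fin 4 → Par C := Fin.cons zc s
  have hpS : ∀ i, (pS i).1.2 ≠ 0 := by
    intro i
    refine par_b_ne ?_
    refine Fin.cases ?_ (fun i => ?_) i
    · exact hzc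
    · intro h
      have := congrArg (fun x : Par C => x.1.1) h
      simp [pS, s, pone] at this
  choose mI hmI using fun i => hω (pmid (pS i) (hpS i))
  let seed : Fin 4 → FreeGroup (Fin 3) := fun i => W * word (pS i) * W *
    (word (pleft (pS i) (hpS i)) * Hh ^ mI i * W * word (pright (pS i) (hpS i)))⁻¹
  let base : List (FreeGroup (Fin 3)) := [Hh ^ orderOf ω, Hh * U * Hh⁻¹ * (word (pconj ω u₀))⁻¹, Z ^ p, pw Z Hh μN,
    ⁅U, conjPow U (Hh ^ e) 2⁆ * v2⁻¹, ⁅U, conjPow U (Hh ^ e) 3⁆ * v3⁻¹, T * vt⁻¹, U ^ p * vp⁻¹,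
    pw U (Hh ^ e) (minpoly (ZMod p) η) * vμ⁻¹, W * W, W * Hh * W * (Hh ^ kw)⁻¹]
  let L := base ++ cen ++ List.ofFn seed
  -- the relations hold in the model
  have hval : ∀ x ∈ L, ev x = 1 := by
    intro x hx
    simp only [L, List.mem_append] at hx
    rcases hx with (hx | hx) | hx
    · simp only [base, List.mem_cons, List.not_mem_nil, or_false] at hx
      rcases hx with rfl | rfl | rfl | rfl | rfl | rfl | rfl | rfl | rfl | rfl | rfl
      · rw [map_pow, evH, hel_pow, pow_orderOf_eq_one, hel_one]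
      · rw [map_mul, map_mul, map_mul, map_inv, map_inv, evU, evH, wordv, xel_conj_hel, mul_inv_cancel]
      · exact evzp
      · exact evzμ
      · rw [map_mul, map_inv, ev2, mul_inv_cancel]
      · rw [map_mul, map_inv, ev3, mul_inv_cancel]
      · rw [map_mul, map_inv, evt, mul_inv_cancel]
      · rw [map_mul, map_inv, evp, mul_inv_cancel]
      · rw [map_mul, map_inv, evμ, mul_inv_cancel]
      · rw [map_mul, evW, wel3_sq]
      · rw [map_mul, map_mul, map_mul, map_inv, map_pow, evW, evH, wel3_hel, hel_pow, hkw, mul_inv_cancel]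
    · simp only [cen] at hx
      split_ifs at hx with hN1
      · simp only [List.mem_cons, List.not_mem_nil, or_false] at hx
        rcases hx with rfl | rfl
        · rw [map_commutatorElement, commutatorElement_eq_one_iff_commute, evZ, evU]
          exact commute_center rfl
        · rw [map_mul, map_mul, map_mul, map_inv, map_inv, map_pow, evH, evZ, hel_pow, xel_conj_hel,
            show pconj (ω ^ e) zc = zc from Par.ext (by simp [pconj, zc, cpar]) (by
              simp only [pconj, Units.val_pow_eq_pow_val, map_pow, ← mul_pow, hN1, one_mul]), mul_inv_cancel]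
      · obtain ⟨i, -, rfl⟩ := List.mem_map.1 hx
        rw [map_commutatorElement, commutatorElement_eq_one_iff_commute, map_conjPow, evZ, evU, evH, conjPow_model]
        exact commute_center (by simp [pconj, zc, cpar])
    · obtain ⟨i, rfl⟩ := (List.mem_ofFn' ..).1 hx
      simp only [seed, map_mul, map_inv, map_pow, evW, evH, wordv, hel_pow, hmI]
      rw [wel3_xel _ (hpS i), mul_inv_cancel]
  have hlen : L.length ≤ 18 := by
    have hc : cen.length ≤ 3 := by
      simp only [cen]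
      split_ifs with hN1
      · simp
      · simp only [List.length_map, List.length_range]
        exact hdeg.trans (hC.resolve_left hN1)
    simp only [L, base, List.length_append, List.length_cons, List.length_nil, List.length_ofFn]
    omega
  -- the presented group
  set rels : Set (FreeGroup (Fin 3)) := ↑L.toFinset with hrels
  have hrel1 : ∀ x ∈ rels, FreeGroup.lift g x = 1 := fun x hx =>
    hval x (by simpa [hrels] using hx)
  let π : PresentedGroup rels →* ↥(grp3 C) := PresentedGroup.toGroup hrel1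
  let ψ : FreeGroup (Fin 3) →* PresentedGroup rels := PresentedGroup.mk rels
  have hπψ : ∀ v, π (ψ v) = ev v := fun v =>
    DFunLike.congr_fun (FreeGroup.ext_hom (π.comp ψ) ev fun i => by
      show π (PresentedGroup.of i) = _
      rw [PresentedGroup.toGroup.of]
      exact (FreeGroup.lift_apply_of (f := g) (x := i)).symm) v
  have h0 : ∀ x ∈ L, ψ x = 1 := fun x hx => PresentedGroup.one_of_mem (by simpa [hrels] using hx)
  have hb : ∀ x ∈ base, ψ x = 1 := fun x hx => h0 x (List.mem_append_left _ (List.mem_append_left _ hx))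
  simp only [base, List.forall_mem_cons] at hb
  obtain ⟨b1, b2, b3, b4, b5, b6, b7, b8, b9, b10, b11, -⟩ := hb
  simp only [map_mul, map_inv, map_pow, map_pw, map_commutatorElement, map_conjPow, mul_inv_eq_one] at b1 b2 b3 b4 b5 b6 b8 b9 b10 b11
  have eZ : ψ Z = ⁅ψ U, conjPow (ψ U) (ψ Hh ^ e) 1⁆ := by
    rw [hZ, map_commutatorElement, map_conjPow, map_pow]
  rw [eZ] at b3 b4
  have memC : ∀ v ∈ Cw, ψ v ∈ centralPart (ψ U) (ψ Hh) e := fun v hv => by
    rw [← centralPart_map]; exact ⟨v, hv, rfl⟩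
  have hhu : ψ Hh * ψ U * (ψ Hh)⁻¹ ∈ Subgroup.closure (Set.range (conjPow (ψ U) (ψ Hh ^ e))) := by
    rw [b2, ← conjSpan_map]; exact ⟨_, wordM _, rfl⟩
  have hcen : ∀ i, Commute (conjPow ⁅ψ U, conjPow (ψ U) (ψ Hh ^ e) 1⁆ (ψ Hh) i) (ψ U) := by
    have hc : ∀ x ∈ cen, ψ x = 1 := fun x hx => h0 x (List.mem_append_left _ (List.mem_append_right _ hx))
    simp only [cen] at hc
    rw [← eZ]
    split_ifs at hc with hN1
    · simp only [List.forall_mem_cons] at hc
      obtain ⟨c1, c2, -⟩ := hc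
      rw [map_commutatorElement, commutatorElement_eq_one_iff_commute] at c1
      simp only [map_mul, map_inv, map_pow, mul_inv_eq_one] at c2
      exact fun i => central_of_stable (orderOf_pos ω) b1 c1 c2 hhu i
    · refine fun i => central_of_basis (minpoly.monic (Algebra.IsIntegral.isIntegral N)) (by rw [eZ]; exact b4) ?_ i
      intro l hl
      have := hc _ (List.mem_map.2 ⟨l, List.mem_range.2 hl, rfl⟩)
      rwa [map_commutatorElement, commutatorElement_eq_one_iff_commute, map_conjPow] at this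
  have R : BRels (p := p) π ω u₀ e j (ψ U) (ψ Hh) :=
    { hω := hω
      ha := hu0
      hη := hη
      hnf := hnf
      hu := by rw [hπψ, evU]
      hh := by rw [hπψ, evH]
      r1 := b1
      hcen := hcen
      hhu := hhu
      zp := b3
      zμ := b4
      d2 := by rw [b5]; exact memC _ hv2
      d3 := by rw [b6]; exact memC _ hv3
      trick := by
        rw [hT, map_mul, map_inv, mul_inv_eq_one] at b7
        simp only [map_mul, map_inv, map_pow, map_conjPow] at b7
        rw [b7]; exact memC _ hvt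
      up := by rw [b8]; exact memC _ hvp
      uμ := by rw [b9]; exact memC _ hvμ }
  obtain ⟨B, hBw', hBX, hBH, hBr⟩ := R.exists_bor (ψ W) (by rw [hπψ, evW]) b10 (fun n hn => by
    rw [b11]
    rw [← hkw, pow_eq_pow_iff_modEq] at hn
    rw [← Nat.mod_add_div kw (orderOf ω), ← Nat.mod_add_div n (orderOf ω), pow_add, pow_add, pow_mul, pow_mul, b1,
      one_pow, one_pow, show kw % orderOf ω = n % orderOf ω from hn])
  have eword : ∀ x, ψ (word x) = B.X x := by
    intro x
    refine B.inj_small (u₀ := u₀) (ω := ω) ?_ ?_ (by rw [hπψ, wordv, B.hX])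
    · rw [hBX, hBH, show ({ψ U, ψ Hh} : Set (PresentedGroup rels)) = ψ '' {U, Hh} by rw [Set.image_pair],
        ← MonoidHom.map_closure]
      exact ⟨_, hMB (wordM x), rfl⟩
    · rw [hBX, hBH]; exact hBr (Or.inl ⟨x, rfl⟩)
  have Rs : ∀ i, B.Rel (pS i) := by
    intro i
    have := h0 _ (List.mem_append_right _ ((List.mem_ofFn' ..).2 ⟨i, rfl⟩))
    simp only [seed, map_mul, map_inv, map_pow, mul_inv_eq_one, eword] at this
    refine ⟨pleft (pS i) (hpS i), pmid (pS i) (hpS i), pright (pS i) (hpS i), ?_⟩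
    rw [hBw', this]
    congr 2
    rw [← hmI]
    refine congrArg₂ _ rfl (B.inj_small (u₀ := u₀) (ω := ω) ?_ ?_ ?_)
    · rw [hBH]; exact pow_mem (show ψ Hh ∈ Subgroup.closure _ from Subgroup.subset_closure (Or.inr rfl)) _
    · rw [hBX, hBH]; exact hBr (Or.inr ⟨_, rfl⟩)
    · rw [map_pow, B.hH, hπψ, evH, hel_pow]
  have hall : ∀ x, x ≠ pone → B.Rel x := fun x hx => by
    refine B.rel_all hδ hδb ω.ne_zero hω' hωnf zc rfl hzc (Rs 0) s one_ne_zero (fun i => ?_) (fun i => ?_)
      (fun i => Rs i.succ) x hx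
    · simp [s]
    · show C.bar ((-((ω : F) ^ i.val * C.bar ((ω : F) ^ i.val)) / (δ * ((ω : F) - C.bar ω))) * δ * ω / (δ * ω)) = _
      have hb : C.bar (δ * ((ω : F) - C.bar ω)) = δ * ((ω : F) - C.bar ω) := by
        rw [map_mul, hδb, map_sub, C.bar_bar]; ring
      rw [mul_assoc, mul_div_assoc, div_self (mul_ne_zero hδ ω.ne_zero), mul_one, map_div₀, map_neg, C.norm_fixed, hb]
      simp only [s]
      rw [mul_assoc (-((ω : F) ^ i.val * C.bar ((ω : F) ^ i.val)) / _), mul_div_assoc,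
        div_self (mul_ne_zero hδ ω.ne_zero), mul_one]
  have hgen' : Subgroup.closure (Set.range B.X ∪ Set.range B.H ∪ {B.w}) = ⊤ := by
    rw [eq_top_iff, ← PresentedGroup.closure_range_of, Subgroup.closure_le]
    rintro _ ⟨i, rfl⟩
    fin_cases i
    · exact Subgroup.subset_closure (Or.inl (Or.inl ⟨u₀, hBX⟩))
    · exact Subgroup.subset_closure (Or.inl (Or.inr ⟨ω, hBH⟩))
    · exact Subgroup.subset_closure (Or.inr hBw'.symm)
  have key := HasSysJ.of_presentation L.toFinset (MulEquiv.ofBijective π (B.bijective hall hgen'))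
  rw [Fintype.card_fin] at key
  exact key.mono ((List.toFinset_card_le L).trans hlen) le_rfl

end CfsgLib.Lie.BoundedPres.SUThree
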