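import Cfsg.Agent.Lib.SU.Basic
import Mathlib.Tactic.FieldSimp
import Mathlib.Tactic.LinearCombination

/-!
# `SU₃` for the antidiagonal form

Root elements `xel (a, b)` with `b + b̄ + aā = 0`, torus elements `hel μ`, the Weyl element `wel3`, and the rule
`wxw = x'hwx''`.
-/

set_option autoImplicit false

namespace CfsgLib.Lie.BoundedPres.SUThree

open Matrix CfsgLib.SU

universe u

variable {F : Type u} [Field F] {q : ℕ} (C : UCtx F q)

/-- the antidiagonal form -/
def form3 (u v : Fin 3 → F) : F := u 0 * C.bar (v 2) + u 1 * C.bar (v 1) + u 2 * C.bar (v 0)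

/-- the group of the antidiagonal form -/
def grp3 : Subgroup (Matrix.SpecialLinearGroup (Fin 3) F) where
  carrier := {A | ∀ u v, form3 C (A.1 *ᵥ u) (A.1 *ᵥ v) = form3 C u v}
  one_mem' u v := by simp
  mul_mem' {a b} ha hb u v := by
    rw [Matrix.SpecialLinearGroup.coe_mul, ← mulVec_mulVec, ← mulVec_mulVec, ha, hb]
  inv_mem' {a} ha u v := by
    conv_rhs => rw [← one_mulVec u, ← one_mulVec v,
      show (1 : Matrix (Fin 3) (Fin 3) F) = a.1 * (a⁻¹ : Matrix.SpecialLinearGroup (Fin 3) F).1 by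
        rw [← Matrix.SpecialLinearGroup.coe_mul, mul_inv_cancel, Matrix.SpecialLinearGroup.coe_one],
      ← mulVec_mulVec, ← mulVec_mulVec, ha]

/-- three vectors of the standard space with the antidiagonal Gram matrix -/
theorem exists_frame3 [Finite F] : ∃ M : Matrix (Fin 3) (Fin 3) F,
    (∀ u v, C.form (M *ᵥ u) (M *ᵥ v) = form3 C u v) ∧ M.det ≠ 0 := by
  classical
  obtain ⟨P⟩ := C.exists_pair (n := 3) (by omega)
  obtain ⟨o, ho, hoo, -⟩ := P.exists_basis
  set e2 : Fin 3 → F := o 0 with he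
  have h22 : C.form e2 e2 = 1 := by simpa using hoo 0 0
  have hm := ho 0
  have hM : ∀ u : Fin 3 → F, (fun i j => ![P.e, e2, P.f] j i : Matrix (Fin 3) (Fin 3) F) *ᵥ u =
      u 0 • P.e + u 1 • e2 + u 2 • P.f := fun u => by
    funext i
    simp [mulVec, dotProduct, Fin.sum_univ_three]
    ring
  refine ⟨fun i j => ![P.e, e2, P.f] j i, fun u v => ?_, ?_⟩
  · rw [hM, hM]
    simp only [C.form_add_left, C.form_add_right, C.form_smul_left, C.form_smul_right, P.ee, P.ff, P.ef, P.fe,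
      hm.1, hm.2, C.form_swap_zero hm.1, C.form_swap_zero hm.2, form3, he] at *
    linear_combination (C.bar (v 1) * u 1) * h22
  · intro h
    obtain ⟨u, hu, hu0⟩ := Matrix.exists_mulVec_eq_zero_iff.2 h
    refine hu ?_
    rw [hM] at hu0
    have key : ∀ w, C.form (u 0 • P.e + u 1 • e2 + u 2 • P.f) w = 0 := fun w => by rw [hu0, C.form_zero_left]
    have a0 := key P.f
    have a1 := key e2
    have a2 := key P.e
    simp [C.form_add_left, C.form_smul_left, P.ee, P.ff, P.ef, P.fe, h22, hm.1, hm.2, he,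
      C.form_swap_zero hm.1, C.form_swap_zero hm.2] at a0 a1 a2 h22
    funext i
    fin_cases i
    · exact a0
    · simpa [h22] using a1
    · exact a2

/-- the group is the standard special unitary group -/
theorem exists_equiv3 [Finite F] : Nonempty (↥(grp3 C) ≃* ↥(Cfsg.SU 3 F q)) := by
  obtain ⟨M, hM, hdet⟩ := exists_frame3 C
  have hu : IsUnit M.det := isUnit_iff_ne_zero.2 hdet
  have e1 : M * M⁻¹ = 1 := Matrix.mul_nonsing_inv M hu
  have e2 : M⁻¹ * M = 1 := Matrix.nonsing_inv_mul M hu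
  have hback : ∀ u, M *ᵥ (M⁻¹ *ᵥ u) = u := fun u => by rw [mulVec_mulVec, e1, one_mulVec]
  have conj : ∀ A : Matrix (Fin 3) (Fin 3) F, (M * A * M⁻¹).det = A.det := fun A => by
    rw [det_mul_right_comm, e1, one_mul]
  refine ⟨{
    toFun := fun A => C.mkSU (M * A.1.1 * M⁻¹) (by rw [conj, A.1.2]) fun u v => by
      rw [← mulVec_mulVec, ← mulVec_mulVec, ← mulVec_mulVec, ← mulVec_mulVec, hM, A.2, ← hM, hback, hback]
    invFun := fun B => ⟨⟨M⁻¹ * B.1.1 * M, by rw [det_mul_right_comm, e2, one_mul, B.1.2]⟩, fun u v => by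
      rw [← hM, ← hM]
      show C.form (M *ᵥ ((M⁻¹ * B.1.1 * M) *ᵥ u)) (M *ᵥ ((M⁻¹ * B.1.1 * M) *ᵥ v)) = _
      rw [← mulVec_mulVec, ← mulVec_mulVec, ← mulVec_mulVec, ← mulVec_mulVec, hback, hback, C.form_su]⟩
    left_inv := fun A => Subtype.ext (Subtype.ext (by
      show M⁻¹ * (M * A.1.1 * M⁻¹) * M = A.1.1
      rw [← mul_assoc, ← mul_assoc, e2, one_mul, mul_assoc, e2, mul_one]))
    right_inv := fun B => Subtype.ext (Subtype.ext (by
      show M * (M⁻¹ * B.1.1 * M) * M⁻¹ = B.1.1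
      rw [← mul_assoc, ← mul_assoc, e1, one_mul, mul_assoc, e1, mul_one]))
    map_mul' := fun A A' => Subtype.ext (Subtype.ext (by
      show M * (A.1.1 * A'.1.1) * M⁻¹ = (M * A.1.1 * M⁻¹) * (M * A'.1.1 * M⁻¹)
      calc M * (A.1.1 * A'.1.1) * M⁻¹ = M * A.1.1 * (M⁻¹ * M) * A'.1.1 * M⁻¹ := by
            rw [e2, mul_one, ← mul_assoc]
        _ = _ := by simp only [mul_assoc])) }⟩

variable {C}

theorem grp3_mul_val (A B : ↥(grp3 C)) : (A * B).1.1 = A.1.1 * B.1.1 := rfl

theorem grp3_ext {A B : ↥(grp3 C)} (h : A.1.1 = B.1.1) : A = B := Subtype.ext (Subtype.ext h)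

variable (C)

/-- the parameters of the root elements -/
abbrev Par := {p : F × F // p.2 + C.bar p.2 + p.1 * C.bar p.1 = 0}

variable {C}

theorem Par.cond (p : Par C) : p.1.2 + C.bar p.1.2 + p.1.1 * C.bar p.1.1 = 0 := p.2

theorem Par.ext {p p' : Par C} (ha : p.1.1 = p'.1.1) (hb : p.1.2 = p'.1.2) : p = p' :=
  Subtype.ext (Prod.ext ha hb)

/-- the product of parameters -/
def pmul (p p' : Par C) : Par C :=
  ⟨(p.1.1 + p'.1.1, p.1.2 + p'.1.2 - C.bar p.1.1 * p'.1.1), by
    simp only [map_sub, map_add, map_mul, C.bar_bar]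
    linear_combination p.cond + p'.cond⟩

/-- the trivial parameter -/
def pone : Par C := ⟨(0, 0), by simp⟩

/-- the inverse parameter -/
def pinv (p : Par C) : Par C :=
  ⟨(-p.1.1, C.bar p.1.2), by simp only [map_neg, C.bar_bar]; linear_combination p.cond⟩

theorem par_b_ne {p : Par C} (hp : p ≠ pone) : p.1.2 ≠ 0 := by
  intro hb
  refine hp (Par.ext ?_ hb)
  have h := p.cond
  rw [hb, map_zero, zero_add, zero_add] at h
  exact (mul_eq_zero.1 h).elim id fun h' => (map_eq_zero C.bar).1 h'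

/-- the root elements -/
def xel (p : Par C) : ↥(grp3 C) :=
  ⟨⟨!![1, -C.bar p.1.1, p.1.2; 0, 1, p.1.1; 0, 0, 1], by simp [det_fin_three]⟩, fun u v => by
    simp [form3, mulVec, dotProduct, Fin.sum_univ_three, C.bar_bar]
    linear_combination (u 2 * C.bar (v 2)) * p.cond⟩

/-- the torus elements -/
def hel (C : UCtx F q) (μ : Fˣ) : ↥(grp3 C) :=
  ⟨⟨Matrix.diagonal ![(μ : F), C.bar μ / μ, (C.bar μ)⁻¹], by
    have h0 : C.bar (μ : F) ≠ 0 := (map_ne_zero C.bar).2 μ.ne_zero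
    rw [det_diagonal, Fin.prod_univ_three]
    simp [μ.ne_zero, h0]
    field_simp⟩, fun u v => by
    have h0 : C.bar (μ : F) ≠ 0 := (map_ne_zero C.bar).2 μ.ne_zero
    simp only [form3, mulVec_diagonal]
    simp [C.bar_bar, map_div₀, map_inv₀]
    field_simp⟩

/-- the Weyl element -/
def wel3 (C : UCtx F q) : ↥(grp3 C) :=
  ⟨⟨!![0, 0, 1; 0, -1, 0; 1, 0, 0], by simp [det_fin_three]⟩, fun u v => by
    simp [form3, mulVec, dotProduct, Fin.sum_univ_three]
    ring⟩

theorem xel_mulVec (p : Par C) (v : Fin 3 → F) :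
    (xel p).1.1 *ᵥ v = ![v 0 - C.bar p.1.1 * v 1 + p.1.2 * v 2, v 1 + p.1.1 * v 2, v 2] := by
  funext i
  fin_cases i <;> simp [xel, mulVec, dotProduct, Fin.sum_univ_three] <;> ring

theorem hel_mulVec (μ : Fˣ) (v : Fin 3 → F) :
    (hel C μ).1.1 *ᵥ v = ![(μ : F) * v 0, C.bar μ / μ * v 1, (C.bar μ)⁻¹ * v 2] := by
  funext i
  fin_cases i <;> simp [hel, mulVec_diagonal]

theorem wel3_mulVec (v : Fin 3 → F) : (wel3 C).1.1 *ᵥ v = ![v 2, -v 1, v 0] := by
  funext i
  fin_cases i <;> simp [wel3, mulVec, dotProduct, Fin.sum_univ_three]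

theorem grp3_mulVec (A B : ↥(grp3 C)) (v : Fin 3 → F) : (A * B).1.1 *ᵥ v = A.1.1 *ᵥ (B.1.1 *ᵥ v) := by
  rw [mulVec_mulVec]; rfl

theorem grp3_ext_vec {A B : ↥(grp3 C)} (h : ∀ v, A.1.1 *ᵥ v = B.1.1 *ᵥ v) : A = B :=
  grp3_ext (Matrix.ext_iff_mulVec.2 h)

theorem xel_mul (p p' : Par C) : xel p * xel p' = xel (pmul p p') := by
  refine grp3_ext_vec fun v => ?_
  rw [grp3_mulVec, xel_mulVec, xel_mulVec, xel_mulVec]
  funext i
  fin_cases i <;> simp [pmul, map_add] <;> ring

theorem xel_pone : xel (pone : Par C) = 1 := by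
  refine grp3_ext_vec fun v => ?_
  rw [xel_mulVec]
  funext i
  fin_cases i <;> simp [pone]

theorem xel_pinv (p : Par C) : xel (pinv p) = (xel p)⁻¹ := by
  refine eq_inv_of_mul_eq_one_left ?_
  rw [xel_mul, ← xel_pone]
  congr 1
  refine Par.ext (by simp [pmul, pinv, pone]) ?_
  simp [pmul, pinv, pone]
  linear_combination p.cond

theorem hel_mul (μ ν : Fˣ) : hel C μ * hel C ν = hel C (μ * ν) := by
  refine grp3_ext_vec fun v => ?_
  rw [grp3_mulVec, hel_mulVec, hel_mulVec, hel_mulVec]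
  funext i
  fin_cases i <;> simp <;> field_simp

theorem hel_one : hel C 1 = 1 := by
  refine grp3_ext_vec fun v => ?_
  rw [hel_mulVec]
  funext i
  fin_cases i <;> simp

theorem wel3_sq : wel3 C * wel3 C = 1 := by
  refine grp3_ext_vec fun v => ?_
  rw [grp3_mulVec, wel3_mulVec, wel3_mulVec]
  funext i
  fin_cases i <;> simp

/-- the conjugated torus parameter -/
def tstar (C : UCtx F q) (μ : Fˣ) : Fˣ := (Units.map (C.bar : F →+* F).toMonoidHom μ)⁻¹

theorem wel3_hel (μ : Fˣ) : wel3 C * hel C μ * wel3 C = hel C (tstar C μ) := by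
  have h0 : C.bar (μ : F) ≠ 0 := (map_ne_zero C.bar).2 μ.ne_zero
  refine grp3_ext_vec fun v => ?_
  rw [grp3_mulVec, grp3_mulVec, wel3_mulVec, hel_mulVec, wel3_mulVec, hel_mulVec]
  funext i
  fin_cases i <;> simp [tstar, C.bar_bar, map_inv₀] <;> field_simp <;> simp

/-- the multiplier of the torus on the short root coordinate -/
def lam (C : UCtx F q) (μ : Fˣ) : F := C.bar μ * C.bar μ / μ

/-- the parameter after conjugation by a torus element -/
def pconj (μ : Fˣ) (p : Par C) : Par C :=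
  ⟨(lam C μ * p.1.1, (μ : F) * C.bar μ * p.1.2), by
    have h0 : C.bar (μ : F) ≠ 0 := (map_ne_zero C.bar).2 μ.ne_zero
    simp only [lam, map_mul, map_div₀, C.bar_bar]
    field_simp
    linear_combination ((μ : F) * C.bar μ) * p.cond⟩

theorem hel_xel (μ : Fˣ) (p : Par C) : hel C μ * xel p = xel (pconj μ p) * hel C μ := by
  have h0 : C.bar (μ : F) ≠ 0 := (map_ne_zero C.bar).2 μ.ne_zero
  refine grp3_ext_vec fun v => ?_
  rw [grp3_mulVec, grp3_mulVec, xel_mulVec, hel_mulVec, hel_mulVec, xel_mulVec]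
  funext i
  fin_cases i <;> simp [pconj, lam, map_mul, map_div₀, C.bar_bar] <;> field_simp <;> ring

/-- the first parameter of `wxw` -/
def pleft (p : Par C) (hb : p.1.2 ≠ 0) : Par C :=
  ⟨(-p.1.1 / p.1.2, p.1.2⁻¹), by
    have h0 : C.bar p.1.2 ≠ 0 := (map_ne_zero C.bar).2 hb
    simp only [map_div₀, map_neg, map_inv₀]
    field_simp
    linear_combination p.cond⟩

/-- the second parameter of `wxw` -/
def pright (p : Par C) (hb : p.1.2 ≠ 0) : Par C :=
  ⟨(-p.1.1 / C.bar p.1.2, p.1.2⁻¹), by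
    have h0 : C.bar p.1.2 ≠ 0 := (map_ne_zero C.bar).2 hb
    simp only [map_div₀, map_neg, map_inv₀, C.bar_bar]
    field_simp
    linear_combination p.cond⟩

/-- the torus parameter of `wxw` -/
def pmid (p : Par C) (hb : p.1.2 ≠ 0) : Fˣ := (Units.mk0 (C.bar p.1.2) ((map_ne_zero C.bar).2 hb))⁻¹

theorem wel3_xel (p : Par C) (hb : p.1.2 ≠ 0) :
    wel3 C * xel p * wel3 C = xel (pleft p hb) * hel C (pmid p hb) * wel3 C * xel (pright p hb) := by
  have h0 : C.bar p.1.2 ≠ 0 := (map_ne_zero C.bar).2 hb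
  refine grp3_ext_vec fun v => ?_
  simp only [grp3_mulVec, wel3_mulVec, hel_mulVec, xel_mulVec]
  funext i
  fin_cases i <;> simp [pleft, pright, pmid, map_div₀, map_inv₀, map_neg, C.bar_bar] <;> field_simp
  · linear_combination (-v 2) * p.cond
  · linear_combination v 1 * p.cond
  · ring

/-- the normal form determines the parameters -/
theorem normal_unique {p p' y y' : Par C} {μ μ' : Fˣ}
    (h : xel p * hel C μ * wel3 C * xel y = xel p' * hel C μ' * wel3 C * xel y') :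
    p = p' ∧ μ = μ' ∧ y = y' := by
  have e := congrArg (fun A : ↥(grp3 C) => A.1.1 *ᵥ ![1, 0, 0]) h
  simp only [grp3_mulVec, wel3_mulVec, hel_mulVec, xel_mulVec] at e
  simp at e
  obtain ⟨e0, e1, e2⟩ := e
  have hμ : μ = μ' := Units.ext e2
  subst hμ
  have hp : p = p' := Par.ext (by simpa [μ.ne_zero] using e1) (by simpa [μ.ne_zero] using e0)
  subst hp
  refine ⟨rfl, rfl, ?_⟩
  have e := congrArg (fun A : ↥(grp3 C) => A.1.1 *ᵥ ![0, 0, 1]) (mul_left_cancel h)
  simp only [xel_mulVec] at e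
  simp at e
  exact Par.ext e.2 e.1

/-- the big cell misses the identity -/
theorem normal_ne_one (p y : Par C) (μ : Fˣ) : xel p * hel C μ * wel3 C * xel y ≠ 1 := by
  intro h
  have e := congrFun (congrArg (fun A : ↥(grp3 C) => A.1.1 *ᵥ ![1, 0, 0]) h) 2
  simp only [grp3_mulVec, wel3_mulVec, hel_mulVec, xel_mulVec] at e
  simp [show (1 : ↥(grp3 C)).1.1 = 1 from rfl] at e

/-- the small cell determines the parameters -/
theorem small_unique {p : Par C} {μ : Fˣ} (h : xel p * hel C μ = 1) : p = pone ∧ μ = 1 := by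
  have e := congrArg (fun A : ↥(grp3 C) => A.1.1 *ᵥ ![1, 0, 0]) h
  have e' := congrArg (fun A : ↥(grp3 C) => A.1.1 *ᵥ ![0, 0, 1]) h
  simp only [grp3_mulVec, hel_mulVec, xel_mulVec] at e e'
  simp [show (1 : ↥(grp3 C)).1.1 = 1 from rfl] at e e'
  have hμ : μ = 1 := e
  subst hμ
  simp at e'
  exact ⟨Par.ext e'.2 e'.1, rfl⟩

/-- every element lies in one of the two cells -/
theorem cells (A : ↥(grp3 C)) : (∃ p μ, A = xel p * hel C μ) ∨ ∃ p μ y, A = xel p * hel C μ * wel3 C * xel y := by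
  -- an element fixing the first basis vector is a root element
  have hfix : ∀ B : ↥(grp3 C), B.1.1 *ᵥ ![1, 0, 0] = ![1, 0, 0] → ∃ p, B = xel p := by
    intro B hB
    set c1 := B.1.1 *ᵥ ![0, 1, 0] with hc1
    set c2 := B.1.1 *ᵥ ![0, 0, 1] with hc2
    have g01 := B.2 ![1, 0, 0] ![0, 1, 0]
    have g02 := B.2 ![1, 0, 0] ![0, 0, 1]
    have g22 := B.2 ![0, 0, 1] ![0, 0, 1]
    have g12 := B.2 ![0, 1, 0] ![0, 0, 1]
    rw [hB] at g01 g02
    rw [← hc1] at g01 g12
    rw [← hc2] at g02 g12 g22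
    simp [form3] at g01 g02 g12 g22
    have hdec : ∀ v, B.1.1 *ᵥ v = v 0 • ![1, 0, 0] + v 1 • c1 + v 2 • c2 := fun v => by
      conv_lhs => rw [show v = v 0 • ![1, 0, 0] + v 1 • ![0, 1, 0] + v 2 • ![0, 0, 1] by
        funext i; fin_cases i <;> simp]
      rw [mulVec_add, mulVec_add, mulVec_smul, mulVec_smul, mulVec_smul, hB, ← hc1, ← hc2]
    have h11 : c1 1 = 1 := by
      have hd := B.1.2
      have eM : B.1.1 = !![1, c1 0, c2 0; 0, c1 1, c2 1; 0, c1 2, c2 2] :=
        Matrix.ext_iff_mulVec.2 fun v => by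
          rw [hdec]; funext i
          fin_cases i <;> simp [mulVec, dotProduct, Fin.sum_univ_three, vecHead, vecTail] <;> ring
      rw [eM, det_fin_three] at hd
      simp at hd
      rw [g01, g02] at hd
      simpa using hd
    rw [g02] at g22 g12
    rw [g01] at g12
    rw [h11] at g12
    simp at g12 g22
    refine ⟨⟨(c2 1, c2 0), by linear_combination g22⟩, grp3_ext_vec fun v => ?_⟩
    rw [hdec, xel_mulVec]
    funext i
    fin_cases i <;> simp [g01, g02, h11, vecHead, vecTail]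
    · linear_combination v 1 * g12
    · ring
  set c := A.1.1 *ᵥ ![1, 0, 0] with hc
  have g := A.2 ![1, 0, 0] ![1, 0, 0]
  rw [← hc] at g
  simp [form3] at g
  by_cases h2 : c 2 = 0
  · have h1 : c 1 = 0 := by
      rw [h2] at g
      simpa using g
    have h0 : c 0 ≠ 0 := fun h0 => by
      have hinj := Matrix.mulVec_injective_iff_isUnit.2
        ((Matrix.isUnit_iff_isUnit_det _).2 (by rw [A.1.2]; exact isUnit_one))
      have hz : c = A.1.1 *ᵥ 0 := by
        rw [mulVec_zero]; funext i; fin_cases i <;> assumption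
      simpa using congrFun (hinj (hc.symm.trans hz)) 0
    refine Or.inl ?_
    set μ := Units.mk0 (c 0) h0
    obtain ⟨p, hp⟩ := hfix ((hel C μ)⁻¹ * A) (by
      have e : (hel C μ)⁻¹ = hel C μ⁻¹ := inv_eq_of_mul_eq_one_right (by rw [hel_mul, mul_inv_cancel, hel_one])
      rw [grp3_mulVec, ← hc, e, hel_mulVec]
      funext i
      fin_cases i <;> simp [μ, h0, h1, h2])
    exact ⟨pconj μ p, μ, by rw [← hel_xel, ← hp, mul_inv_cancel_left]⟩
  · refine Or.inr ?_
    set μ := (Units.mk0 (C.bar (c 2)) ((map_ne_zero C.bar).2 h2))⁻¹ with hμ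
    let p : Par C := ⟨(c 1 / c 2, c 0 / c 2), by
      have h0 : C.bar (c 2) ≠ 0 := (map_ne_zero C.bar).2 h2
      simp only [map_div₀]
      field_simp
      linear_combination g⟩
    obtain ⟨y, hy⟩ := hfix ((xel p * hel C μ * wel3 C)⁻¹ * A) (by
      rw [grp3_mulVec, ← hc]
      conv_lhs => arg 2; rw [show c = (xel p * hel C μ * wel3 C).1.1 *ᵥ ![1, 0, 0] by
        simp only [grp3_mulVec, wel3_mulVec, hel_mulVec, xel_mulVec]
        funext i
        fin_cases i <;> simp [p, μ, C.bar_bar] <;> field_simp]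
      rw [← grp3_mulVec, inv_mul_cancel, show (1 : ↥(grp3 C)).1.1 = 1 from rfl, one_mulVec])
    exact ⟨p, μ, y, by rw [← hy, mul_inv_cancel_left]⟩

end CfsgLib.Lie.BoundedPres.SUThree
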