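import Cfsg.Agent.Lib.Lie.BoundedPres.SU3.Model

/-!
# The Weyl relations of `SU₃` from four of them

`Rel p` says that `w X(p) w` lies in the big cell. It is stable under the torus and inversion; for `x`, `y` and a
central product `xy` it gives the product of the inner parameters. Four seeds give every parameter.
-/

set_option autoImplicit false

namespace CfsgLib.Lie.BoundedPres.SUThree

open Matrix CfsgLib.SU

universe u v

variable {F : Type u} [Field F] {q : ℕ} {C : UCtx F q} {Γ : Type v} [Group Γ]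

/-- a Borel subgroup over the model together with an involution -/
structure Bor (π : Γ →* ↥(grp3 C)) where
  X : Par C → Γ
  H : Fˣ → Γ
  w : Γ
  hX : ∀ p, π (X p) = xel p
  hH : ∀ μ, π (H μ) = hel C μ
  hw : π w = wel3 C
  X_mul : ∀ p p', X p * X p' = X (pmul p p')
  H_mul : ∀ μ ν, H μ * H ν = H (μ * ν)
  H_X : ∀ μ p, H μ * X p = X (pconj μ p) * H μ
  w_sq : w * w = 1
  w_H : ∀ μ, w * H μ * w = H (tstar C μ)

theorem lam_mul (μ ν : Fˣ) : lam C (μ * ν) = lam C μ * lam C ν := by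
  simp only [lam, Units.val_mul, map_mul]
  field_simp

theorem lam_fixed {r : Fˣ} (hr : C.bar (r : F) = r) : lam C r = r := by
  simp [lam, hr]

namespace Bor

variable {π : Γ →* ↥(grp3 C)} (B : Bor π)
include B

theorem X_one : B.X pone = 1 := by
  have h := B.X_mul pone pone
  rw [show pmul pone pone = (pone : Par C) from Par.ext (by simp [pmul, pone]) (by simp [pmul, pone])] at h
  exact left_eq_mul.1 h.symm

theorem X_inv (p : Par C) : (B.X p)⁻¹ = B.X (pinv p) := by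
  refine inv_eq_of_mul_eq_one_left ?_
  rw [B.X_mul, ← B.X_one]
  congr 1
  refine Par.ext (by simp [pmul, pinv, pone]) ?_
  simp [pmul, pinv, pone]
  linear_combination p.cond

theorem H_one : B.H 1 = 1 := by
  have h := B.H_mul 1 1
  rw [one_mul] at h
  exact left_eq_mul.1 h.symm

theorem H_inv (μ : Fˣ) : (B.H μ)⁻¹ = B.H μ⁻¹ := by
  refine inv_eq_of_mul_eq_one_left ?_
  rw [B.H_mul, inv_mul_cancel, B.H_one]

theorem w_move (μ : Fˣ) : B.w * B.H μ = B.H (tstar C μ) * B.w := by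
  rw [← B.w_H, mul_assoc, B.w_sq, mul_one]

theorem X_H (p : Par C) (μ : Fˣ) : B.X p * B.H μ = B.H μ * B.X (pconj μ⁻¹ p) := by
  have h := B.H_X μ⁻¹ p
  rw [← B.H_inv] at h
  calc B.X p * B.H μ = B.H μ * ((B.H μ)⁻¹ * B.X p) * B.H μ := by group
    _ = B.H μ * (B.X (pconj μ⁻¹ p) * (B.H μ)⁻¹) * B.H μ := by rw [h]
    _ = _ := by group

/-- the big cell -/
def Big (g : Γ) : Prop := ∃ p μ y, g = B.X p * B.H μ * B.w * B.X y

theorem Big.left_X {g : Γ} (h : B.Big g) (p : Par C) : B.Big (B.X p * g) := by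
  obtain ⟨p', μ, y, rfl⟩ := h
  exact ⟨pmul p p', μ, y, by rw [← B.X_mul]; group⟩

theorem Big.left_H {g : Γ} (h : B.Big g) (ν : Fˣ) : B.Big (B.H ν * g) := by
  obtain ⟨p', μ, y, rfl⟩ := h
  refine ⟨pconj ν p', ν * μ, y, ?_⟩
  rw [← B.H_mul, show B.X (pconj ν p') * (B.H ν * B.H μ) = B.X (pconj ν p') * B.H ν * B.H μ by group, ← B.H_X]
  group

theorem Big.right_X {g : Γ} (h : B.Big g) (p : Par C) : B.Big (g * B.X p) := by
  obtain ⟨p', μ, y, rfl⟩ := h
  exact ⟨p', μ, pmul y p, by rw [← B.X_mul]; group⟩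

theorem Big.right_H {g : Γ} (h : B.Big g) (ν : Fˣ) : B.Big (g * B.H ν) := by
  obtain ⟨p', μ, y, rfl⟩ := h
  refine ⟨p', μ * tstar C ν, pconj ν⁻¹ y, ?_⟩
  rw [← B.H_mul, show B.X p' * B.H μ * B.w * B.X y * B.H ν = B.X p' * B.H μ * B.w * (B.X y * B.H ν) by group,
    B.X_H y ν, show B.X p' * B.H μ * B.w * (B.H ν * B.X (pconj ν⁻¹ y)) =
      B.X p' * B.H μ * (B.w * B.H ν) * B.X (pconj ν⁻¹ y) by group, B.w_move]
  group

/-- the Weyl relation at a parameter -/
def Rel (p : Par C) : Prop := B.Big (B.w * B.X p * B.w)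

theorem rel_conj {p : Par C} (h : B.Rel p) (μ : Fˣ) : B.Rel (pconj μ p) := by
  have e : B.w * B.X (pconj μ p) * B.w = B.H (tstar C μ) * (B.w * B.X p * B.w) * B.H (tstar C μ)⁻¹ := by
    have h1 : B.X (pconj μ p) = B.H μ * B.X p * (B.H μ)⁻¹ := by rw [B.H_X]; group
    rw [h1, ← B.H_inv, ← B.w_H]
    have hw : B.w⁻¹ = B.w := inv_eq_of_mul_eq_one_right B.w_sq
    rw [show (B.w * B.H μ * B.w)⁻¹ = B.w⁻¹ * (B.H μ)⁻¹ * B.w⁻¹ by group, hw,
      show B.w * B.H μ * B.w * (B.w * B.X p * B.w) * (B.w * (B.H μ)⁻¹ * B.w) =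
        B.w * B.H μ * (B.w * B.w) * B.X p * (B.w * B.w) * (B.H μ)⁻¹ * B.w by group, B.w_sq]
    group
  unfold Rel
  rw [e]
  exact ((h.left_H B _).right_H B _)

theorem rel_inv {p : Par C} (h : B.Rel p) : B.Rel (pinv p) := by
  obtain ⟨p', μ, y, e⟩ := h
  have hw : B.w⁻¹ = B.w := inv_eq_of_mul_eq_one_right B.w_sq
  have e1 : B.w * B.X (pinv p) * B.w = B.X (pinv y) * B.H (tstar C μ⁻¹) * B.w * B.X (pinv p') := by
    rw [← B.X_inv p, ← B.X_inv y, ← B.X_inv p',
      show (B.X y)⁻¹ * B.H (tstar C μ⁻¹) * B.w = (B.X y)⁻¹ * (B.H (tstar C μ⁻¹) * B.w) by group, ← B.w_move,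
      ← B.H_inv, show B.w * (B.X p)⁻¹ * B.w = (B.w⁻¹ * B.X p * B.w⁻¹)⁻¹ by group, hw, e]
    simp only [_root_.mul_inv_rev, hw]
    group
  exact ⟨_, _, _, e1⟩

theorem rel_val {p : Par C} (h : B.Rel p) (hb : p.1.2 ≠ 0) :
    B.w * B.X p * B.w = B.X (pleft p hb) * B.H (pmid p hb) * B.w * B.X (pright p hb) := by
  obtain ⟨p', μ, y, e⟩ := h
  have e' := congrArg π e
  simp only [map_mul, B.hX, B.hH, B.hw, wel3_xel p hb] at e'
  obtain ⟨rfl, rfl, rfl⟩ := normal_unique e'
  exact e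

/-- from two relations and that at the product, the relation at the product of the inner parameters -/
theorem rel_triangle {p p' : Par C} (h : B.Rel p) (h' : B.Rel p') (h'' : B.Rel (pmul p p')) (hb : p.1.2 ≠ 0)
    (hb' : p'.1.2 ≠ 0) : B.Rel (pmul (pright p hb) (pleft p' hb')) := by
  set x := B.X (pleft p hb) with hx
  set m := B.H (pmid p hb) with hm
  set k := B.H (pmid p' hb') with hk
  set y := B.X (pright p' hb') with hy
  have e : B.w * B.X (pmul (pright p hb) (pleft p' hb')) * B.w =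
      m⁻¹ * x⁻¹ * (B.w * B.X (pmul p p') * B.w) * y⁻¹ * B.H (tstar C (pmid p' hb'))⁻¹ := by
    have e0 : B.w * B.X (pmul p p') * B.w = (B.w * B.X p * B.w) * (B.w * B.X p' * B.w) := by
      rw [← B.X_mul, show B.w * B.X p * B.w * (B.w * B.X p' * B.w) =
        B.w * B.X p * (B.w * B.w) * B.X p' * B.w by group, B.w_sq, mul_one]
      group
    rw [e0, B.rel_val h hb, B.rel_val h' hb', ← hx, ← hm, ← hk, ← hy, ← B.X_mul, ← B.H_inv, ← B.w_H, ← hk]
    have hw : B.w⁻¹ = B.w := inv_eq_of_mul_eq_one_right B.w_sq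
    simp only [_root_.mul_inv_rev, hw]
    simp only [mul_assoc, inv_mul_cancel_left, mul_inv_cancel_left]
    rw [show B.w * (B.w * (k⁻¹ * B.w)) = k⁻¹ * B.w by rw [← mul_assoc, B.w_sq, one_mul], mul_inv_cancel_left]
  unfold Rel
  rw [e, hm, hx, hy, B.H_inv, B.X_inv, B.X_inv]
  have hbig : B.Big (B.w * B.X (pmul p p') * B.w) := h''
  have := (((hbig.left_X B (pinv (pleft p hb))).left_H B (pmid p hb)⁻¹).right_X B (pinv (pright p' hb'))).right_H B
    (tstar C (pmid p' hb'))⁻¹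
  simpa only [mul_assoc] using this

/-- the class of a second coordinate -/
def AllRel (δ c : F) : Prop := ∀ p : Par C, p.1.1 ≠ 0 → C.bar (p.1.2 / (δ * c)) = p.1.2 / (δ * c) → B.Rel p

theorem orbit {p p' : Par C} (h : B.Rel p) (ha : p.1.1 ≠ 0) (μ : Fˣ) (hμ : lam C μ * p.1.1 = p'.1.1)
    (hb : C.bar (p'.1.2 / p.1.2) = p'.1.2 / p.1.2) : B.Rel p' := by
  have hp : p.1.2 + C.bar p.1.2 ≠ 0 := fun e => by
    have := p.cond
    rw [e, zero_add] at this
    exact mul_ne_zero ha ((map_ne_zero C.bar).2 ha) this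
  have hb0 : p.1.2 ≠ 0 := fun e => hp (by rw [e, map_zero, add_zero])
  suffices e : pconj μ p = p' by rw [← e]; exact B.rel_conj h μ
  refine Par.ext hμ ?_
  set t := p'.1.2 / p.1.2 with ht
  have e1 : p'.1.2 = t * p.1.2 := by rw [ht, div_mul_cancel₀ _ hb0]
  have c1 := (pconj μ p).cond
  have c2 := p'.cond
  have hμ' : (pconj μ p).1.1 = p'.1.1 := hμ
  rw [hμ'] at c1
  rw [e1, map_mul, hb] at c2
  simp only [pconj, map_mul, C.bar_bar] at c1 ⊢
  rw [e1]
  have : ((μ : F) * C.bar μ - t) * (p.1.2 + C.bar p.1.2) = 0 := by linear_combination c1 - c2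
  rw [sub_eq_zero.1 ((mul_eq_zero.1 this).resolve_right hp)]

/-- the class of a product -/
theorem allRel_mul {δ : F} (hδ : δ ≠ 0) (hδ' : C.bar δ = -δ) (hcen : ∀ p : Par C, p.1.1 = 0 → p ≠ pone → B.Rel p)
    {c c' : F} (h : B.AllRel δ c) (h' : B.AllRel δ c') (hc : C.bar c ≠ c) (hc' : C.bar c' ≠ c')
    (hcc : C.bar (c * c') ≠ c * c') : B.AllRel δ (c * c') := by
  have c0 : c ≠ 0 := fun e => hc (by simp [e])
  have c0' : c' ≠ 0 := fun e => hc' (by simp [e])
  have key : ∀ Z : Par C, Z.1.1 ≠ 0 → C.bar (Z.1.2 * (c * c') / δ) = Z.1.2 * (c * c') / δ → B.Rel Z := by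
    intro Z hZa hZb
    have cb : C.bar c ≠ 0 := (map_ne_zero C.bar).2 c0
    obtain ⟨a, ha⟩ : ∃ a, a = Z.1.1 * δ * C.bar c * c' := ⟨_, rfl⟩
    have a0 : a ≠ 0 := ha ▸ mul_ne_zero (mul_ne_zero (mul_ne_zero hZa hδ) cb) c0'
    have na : C.bar (a * C.bar a) = a * C.bar a := C.norm_fixed a
    have n0 : a * C.bar a ≠ 0 := mul_ne_zero a0 ((map_ne_zero C.bar).2 a0)
    have mk : ∀ d : F, C.bar d ≠ d → ∃ t : F, t ≠ 0 ∧ C.bar t = t ∧
        t * δ * d + C.bar (t * δ * d) + a * C.bar a = 0 := by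
      intro d hd
      have hd' : d - C.bar d ≠ 0 := sub_ne_zero.2 (Ne.symm hd)
      have hd'' : C.bar d - d ≠ 0 := sub_ne_zero.2 hd
      have hb : C.bar (-(a * C.bar a) / (δ * (d - C.bar d))) = -(a * C.bar a) / (δ * (d - C.bar d)) := by
        rw [map_div₀, map_neg, na, map_mul, map_sub, C.bar_bar, hδ',
          show -δ * (C.bar d - d) = δ * (d - C.bar d) by ring]
      refine ⟨_, div_ne_zero (neg_ne_zero.2 n0) (mul_ne_zero hδ hd'), hb, ?_⟩
      rw [map_mul, map_mul, hb, hδ']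
      field_simp
      ring
    obtain ⟨t, t0, tb, hp⟩ := mk c hc
    obtain ⟨t', t0', tb', hp'⟩ := mk c' hc'
    let P : Par C := ⟨(a, t * δ * c), hp⟩
    let P' : Par C := ⟨(-a, t' * δ * c'), by simpa using hp'⟩
    have Pb : P.1.2 ≠ 0 := mul_ne_zero (mul_ne_zero t0 hδ) c0
    have Pb' : P'.1.2 ≠ 0 := mul_ne_zero (mul_ne_zero t0' hδ) c0'
    set s := t * δ * c + t' * δ * c' + a * C.bar a with hs
    have hs' : C.bar s = -s := by
      rw [hs, map_add, map_add, na]
      linear_combination hp + hp'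
    have s0 : s ≠ 0 := by
      intro e
      refine hcc ?_
      have e1 : t' * c' = -(t * C.bar c) := by
        refine mul_left_cancel₀ hδ ?_
        rw [hs] at e
        have : t' * δ * c' = C.bar (t * δ * c) := by linear_combination e - hp
        rw [map_mul, map_mul, tb, hδ'] at this
        linear_combination this
      have e2 : c * c' = -(t * (c * C.bar c) / t') := by
        field_simp
        linear_combination e1
      rw [e2, map_neg, map_div₀, map_mul, C.norm_fixed, tb, tb']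
    have hmul : pmul P P' = ⟨(0, s), by rw [hs', map_zero]; ring⟩ := Par.ext (by simp [pmul, P, P'])
      (by simp [pmul, P, P', hs]; ring)
    have R := B.rel_triangle (h P a0 (by
        show C.bar (t * δ * c / (δ * c)) = t * δ * c / (δ * c)
        rw [show t * δ * c / (δ * c) = t by field_simp, tb]))
      (h' P' (neg_ne_zero.2 a0) (by
        show C.bar (t' * δ * c' / (δ * c')) = t' * δ * c' / (δ * c')
        rw [show t' * δ * c' / (δ * c') = t' by field_simp, tb']))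
      (by rw [hmul]; exact hcen _ rfl fun e => s0 (congrArg (fun p : Par C => p.1.2) e)) Pb Pb'
    have rb : C.bar (s / δ / (t * t')) = s / δ / (t * t') := by
      rw [map_div₀, map_div₀, map_mul, tb, tb', hs', hδ']
      field_simp
    have r0 : s / δ / (t * t') ≠ 0 := div_ne_zero (div_ne_zero s0 hδ) (mul_ne_zero t0 t0')
    set z := pmul (pright P Pb) (pleft P' Pb') with hz
    have sd : s = δ * (t * C.bar c + t' * c') := by
      have hp2 := hp
      rw [map_mul, map_mul, tb, hδ'] at hp2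
      rw [hs]
      linear_combination hp2
    have za : z.1.1 = s / δ / (t * t') * Z.1.1 := by
      simp only [hz, pmul, pright, pleft, P, P', map_mul, tb, hδ', sd, ha]
      field_simp
      ring
    have zb : z.1.2 = s / ((t * δ * c) * (t' * δ * c')) := by
      simp only [hz, pmul, pright, pleft, P, P', map_mul, map_div₀, map_neg, C.bar_bar, tb, hδ', hs]
      field_simp
      ring
    refine B.orbit R (by rw [za]; exact mul_ne_zero r0 hZa) (Units.mk0 _ r0)⁻¹ ?_ ?_
    · rw [lam_fixed (by rw [Units.val_inv_eq_inv_val, map_inv₀, Units.val_mk0, rb]), za, Units.val_inv_eq_inv_val,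
        Units.val_mk0, inv_mul_cancel_left₀ r0]
    · rw [zb, show Z.1.2 / (s / (t * δ * c * (t' * δ * c'))) =
        Z.1.2 * (c * c') / δ * (δ * δ) / (s / δ / (t * t')) by field_simp]
      rw [map_div₀, map_mul, hZb, map_mul, hδ', neg_mul_neg, rb]
  intro p ha hp
  have h2 : B.Rel (pinv p) := by
    refine key _ (by simpa [pinv] using ha) ?_
    have e : (pinv p).1.2 * (c * c') / δ = -(C.bar (p.1.2 / (δ * (c * c'))) * ((c * c') * C.bar (c * c'))) := by
      show C.bar p.1.2 * (c * c') / δ = _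
      have : C.bar (c * c') ≠ 0 := (map_ne_zero C.bar).2 (mul_ne_zero c0 c0')
      rw [map_div₀, map_mul C.bar δ, hδ']
      field_simp
    rw [e, hp, map_neg, map_mul, hp, C.norm_fixed]
  have h3 := B.rel_inv h2
  rwa [show pinv (pinv p) = p from Par.ext (by simp [pinv]) (by simp [pinv, C.bar_bar])] at h3

theorem allRel_scale {δ c r : F} (hr : C.bar r = r) (hr0 : r ≠ 0) (h : B.AllRel δ c) : B.AllRel δ (r * c) := by
  intro p ha hp
  refine h p ha ?_
  rw [show p.1.2 / (δ * c) = p.1.2 / (δ * (r * c)) * r by field_simp, map_mul, hp, hr]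

variable [Finite F]

/-- four seeds give all the relations -/
theorem rel_all {δ ω a₀ : F} (hδ : δ ≠ 0) (hδ' : C.bar δ = -δ) (hω0 : ω ≠ 0)
    (hω : ∀ s : F, s ≠ 0 → ∃ n : ℕ, ω ^ n = s) (hnf : C.bar ω ≠ ω) (z : Par C) (hza : z.1.1 = 0) (hz : z ≠ pone)
    (Rz : B.Rel z) (s : Fin 3 → Par C) (ha₀ : a₀ ≠ 0) (hsa : ∀ k, (s k).1.1 = a₀ * ω ^ k.val)
    (hsb : ∀ k, C.bar ((s k).1.2 / (δ * ω)) = (s k).1.2 / (δ * ω)) (Rs : ∀ k, B.Rel (s k)) (p : Par C)
    (hp : p ≠ pone) : B.Rel p := by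
  have zb := par_b_ne hz
  have hcen : ∀ p : Par C, p.1.1 = 0 → p ≠ pone → B.Rel p := by
    intro p hpa hp
    have pb := par_b_ne hp
    have e1 := z.cond
    have e2 := p.cond
    rw [hza, zero_mul, add_zero] at e1
    rw [hpa, zero_mul, add_zero] at e2
    obtain ⟨x, hx⟩ := C.exists_norm (c := p.1.2 / z.1.2) (by
      rw [map_div₀, eq_neg_of_add_eq_zero_right e1, eq_neg_of_add_eq_zero_right e2, neg_div_neg_eq])
    have x0 : x ≠ 0 := fun e => by rw [e, zero_mul] at hx; exact div_ne_zero pb zb hx.symm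
    have e : pconj (Units.mk0 x x0) z = p := Par.ext (by simp [pconj, hza, hpa]) (by
      show x * C.bar x * z.1.2 = p.1.2
      rw [hx, div_mul_cancel₀ _ zb])
    rw [← e]
    exact B.rel_conj Rz _
  have hone : B.AllRel δ ω := by
    intro p ha hb
    obtain ⟨m, hm⟩ := hω (p.1.1 / a₀) (div_ne_zero ha ha₀)
    set k : Fin 3 := ⟨m % 3, Nat.mod_lt _ (by norm_num)⟩
    have cb : C.bar ω ≠ 0 := (map_ne_zero C.bar).2 hω0
    set u0 := Units.mk0 (ω⁻¹ * (ω * C.bar ω) ^ 2) (mul_ne_zero (inv_ne_zero hω0) (pow_ne_zero _ (mul_ne_zero hω0 cb)))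
    have hu0 : lam C u0 = ω ^ 3 := by
      simp [lam, u0, C.bar_bar]
      field_simp
    have hpow : ∀ j : ℕ, lam C (u0 ^ j) = ω ^ (3 * j) := by
      intro j
      induction j with
      | zero => simp [lam]
      | succ j ih => rw [pow_succ, lam_mul, ih, hu0, ← pow_add, mul_add, mul_one]
    have sk0 : (s k).1.1 ≠ 0 := by rw [hsa]; exact mul_ne_zero ha₀ (pow_ne_zero _ hω0)
    refine B.orbit (Rs k) sk0 (u0 ^ (m / 3)) ?_ ?_
    · rw [hpow, hsa, show ω ^ (3 * (m / 3)) * (a₀ * ω ^ k.val) = a₀ * (ω ^ (3 * (m / 3)) * ω ^ k.val) by ring,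
        ← pow_add, show 3 * (m / 3) + k.val = m from Nat.div_add_mod m 3, hm, mul_div_cancel₀ _ ha₀]
    · have e := (s k).cond
      have sb : (s k).1.2 ≠ 0 := fun e' => by
        rw [e', map_zero, zero_add, zero_add] at e
        exact mul_ne_zero sk0 ((map_ne_zero C.bar).2 sk0) e
      rw [show p.1.2 / (s k).1.2 = p.1.2 / (δ * ω) / ((s k).1.2 / (δ * ω)) by field_simp, map_div₀, hb, hsb]
  have hall : ∀ n : ℕ, C.bar (ω ^ n) = ω ^ n ∨ B.AllRel δ (ω ^ n) := by
    intro n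
    induction n with
    | zero => exact Or.inl (by simp)
    | succ n ih =>
      rcases ih with h | h
      · refine Or.inr ?_
        rw [pow_succ]
        exact B.allRel_scale h (pow_ne_zero _ hω0) hone
      · by_cases h1 : C.bar (ω ^ (n + 1)) = ω ^ (n + 1)
        · exact Or.inl h1
        refine Or.inr ?_
        by_cases h0 : C.bar (ω ^ n) = ω ^ n
        · rw [pow_succ]; exact B.allRel_scale h0 (pow_ne_zero _ hω0) hone
        rw [pow_succ] at h1 ⊢
        exact B.allRel_mul hδ hδ' hcen h hone h0 hnf h1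
  by_cases ha : p.1.1 = 0
  · exact hcen p ha hp
  have pb := par_b_ne hp
  obtain ⟨n, hn⟩ := hω (p.1.2 / δ) (div_ne_zero pb hδ)
  rcases hall n with h | h
  · exfalso
    rw [hn, map_div₀, hδ', div_neg, ← neg_div, div_left_inj' hδ] at h
    have := p.cond
    rw [show p.1.2 + C.bar p.1.2 = 0 by linear_combination -h, zero_add] at this
    exact mul_ne_zero ha ((map_ne_zero C.bar).2 ha) this
  · exact h p ha (by rw [hn, mul_div_cancel₀ _ hδ, div_self pb, map_one])

omit [Finite F] in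
/-- the projection is bijective once all relations hold -/
theorem bijective (hrel : ∀ p, p ≠ pone → B.Rel p)
    (hgen : Subgroup.closure (Set.range B.X ∪ Set.range B.H ∪ {B.w}) = ⊤) : Function.Bijective π := by
  let S : Γ → Prop := fun g => (∃ p μ, g = B.X p * B.H μ) ∨ B.Big g
  have hwx : ∀ p, S (B.w * B.X p * B.w) := by
    intro p
    by_cases hp : p = pone
    · exact Or.inl ⟨pone, 1, by rw [hp, B.X_one, B.H_one, mul_one, B.w_sq, mul_one]⟩
    · exact Or.inr (hrel p hp)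
  have rX : ∀ g p, S g → S (g * B.X p) := by
    rintro g p (⟨p', μ, rfl⟩ | h)
    · exact Or.inl ⟨pmul p' (pconj μ p), μ, by rw [← B.X_mul, mul_assoc, B.H_X]; group⟩
    · exact Or.inr (h.right_X B p)
  have rH : ∀ g ν, S g → S (g * B.H ν) := by
    rintro g ν (⟨p', μ, rfl⟩ | h)
    · exact Or.inl ⟨p', μ * ν, by rw [mul_assoc, B.H_mul]⟩
    · exact Or.inr (h.right_H B ν)
  have rw' : ∀ g, S g → S (g * B.w) := by
    rintro g (⟨p', μ, rfl⟩ | ⟨p', μ, y, rfl⟩)
    · exact Or.inr ⟨p', μ, pone, by rw [B.X_one, mul_one]⟩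
    · rw [show B.X p' * B.H μ * B.w * B.X y * B.w = B.X p' * (B.H μ * (B.w * B.X y * B.w)) by group]
      rcases hwx y with ⟨p, ν, e⟩ | h
      · rw [e]
        refine Or.inl ⟨pmul p' (pconj μ p), μ * ν, ?_⟩
        rw [← B.X_mul, ← B.H_mul, show B.H μ * (B.X p * B.H ν) = B.H μ * B.X p * B.H ν by group, B.H_X]
        group
      · exact Or.inr ((h.left_H B μ).left_X B p')
  have hS : ∀ g, S g := by
    intro g
    have hg : g ∈ Subgroup.closure (Set.range B.X ∪ Set.range B.H ∪ {B.w}) := hgen ▸ Subgroup.mem_top g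
    induction hg using Subgroup.closure_induction_right with
    | one => exact Or.inl ⟨pone, 1, by rw [B.X_one, B.H_one, one_mul]⟩
    | mul_right x _ y hy ih =>
      rcases hy with (⟨p, rfl⟩ | ⟨μ, rfl⟩) | rfl
      exacts [rX _ _ ih, rH _ _ ih, rw' _ ih]
    | mul_inv_cancel x _ y hy ih =>
      rcases hy with (⟨p, rfl⟩ | ⟨μ, rfl⟩) | rfl
      · rw [B.X_inv]; exact rX _ _ ih
      · rw [B.H_inv]; exact rH _ _ ih
      · rw [inv_eq_of_mul_eq_one_right B.w_sq]; exact rw' _ ih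
  refine ⟨(injective_iff_map_eq_one π).2 fun g hg => ?_, fun A => ?_⟩
  · rcases hS g with ⟨p, μ, rfl⟩ | ⟨p, μ, y, rfl⟩
    · rw [map_mul, B.hX, B.hH] at hg
      obtain ⟨rfl, rfl⟩ := small_unique hg
      rw [B.X_one, B.H_one, mul_one]
    · simp only [map_mul, B.hX, B.hH, B.hw] at hg
      exact absurd hg (normal_ne_one p y μ)
  · rcases cells A with ⟨p, μ, rfl⟩ | ⟨p, μ, y, rfl⟩
    · exact ⟨B.X p * B.H μ, by rw [map_mul, B.hX, B.hH]⟩
    · exact ⟨B.X p * B.H μ * B.w * B.X y, by simp only [map_mul, B.hX, B.hH, B.hw]⟩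

end Bor

end CfsgLib.Lie.BoundedPres.SUThree
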